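import Cfsg.Agent.OddOrderLocal.FitCores
import Cfsg.Agent.SignalizersComponents.RelSylow
import Cfsg.Agent.PLocal.ZJElem
import Cfsg.Agent.S1458
import Cfsg.Agent.S0117
import Cfsg.Agent.SignalizersComponents.CoprimeBasic

/-!
# Bender's method for a pair of odd order subgroups `U ≤ Y`

`false_of_pair`: there are no subgroups `U ≤ Y` of odd order of a finite group such that `N_G(T) ≤ N_G(U)` for every
`1 ≠ T ≤ U` normalised by `N_G(U)`, `N_G(U) ∩ Y = U`, `O_p(U) = 1` implies `O_p(Y) = 1`, and `N_G(Y)` is not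
contained in `N_G(U)`.
-/

set_option autoImplicit false
set_option linter.unusedSectionVars false

namespace Cfsg.Agent.NineCore.BenderPair

open Subgroup Cfsg
open Cfsg.Agent.OddOrderLocal.PiCoreOf Cfsg.Agent.OddOrderLocal.FitCores
open Cfsg.Agent.SignalizersComponents.RelSylow

variable {G : Type*} [Group G] [Finite G]

/-- A nontrivial solvable subgroup has some `O_q ≠ 1`. -/
theorem exists_core_ne_bot {X : Subgroup G} (hX : Group.IsSolvable X) (h1 : X ≠ ⊥) :
    ∃ q : ℕ, q.Prime ∧ piCoreOf {q} X ≠ ⊥ := by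
  obtain ⟨q, hq, V, hVX, hV1, hVq, hVn⟩ := exists_pgroup_le_of_solvable hX h1
  refine ⟨q, hq, fun h => hV1 ?_⟩
  rw [eq_bot_iff, ← h]
  exact le_core_of_isPGroup hq hVX (Subgroup.le_normalizer.trans hVn) hVq

/-- An element of a solvable `X` centralising every `O_q(X)` lies in `F(X)`. -/
theorem le_fitting_of_forall {X A : Subgroup G} (hX : Group.IsSolvable X) (hAX : A ≤ X)
    (h : ∀ q : ℕ, q.Prime → A ≤ centralizer (piCoreOf {q} X : Set G)) : A ≤ fittingOf X := by
  refine le_trans (le_inf hAX ?_) (inf_centralizer_fittingOf_le hX)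
  rw [le_centralizer_iff, fittingOf_le_iff]
  intro q hq
  rw [le_centralizer_iff]
  exact h q hq

/-- `O_{p'}(X) = 1` if `O_q(X) = 1` for all primes `q ≠ p`. -/
theorem pPrimeCore_eq_bot {X : Subgroup G} (hX : Group.IsSolvable X) {p : ℕ} (hp : p.Prime)
    (h : ∀ q : ℕ, q.Prime → q ≠ p → piCoreOf {q} X = ⊥) : pPrimeCore p X = ⊥ := by
  by_contra hne
  obtain ⟨W, hW⟩ : ∃ W : Subgroup G, W = (pPrimeCore p X).map X.subtype := ⟨_, rfl⟩
  have hW1 : W ≠ ⊥ := by
    rw [hW]
    intro hbot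
    exact hne ((Subgroup.map_eq_bot_iff_of_injective _ X.subtype_injective).1 hbot)
  have hWX : W ≤ X := hW ▸ Subgroup.map_subtype_le _
  have hWs : Group.IsSolvable W :=
    Group.isSolvable_of_isSolvable_injective (f := Subgroup.inclusion hWX) (Subgroup.inclusion_injective _)
  have hWn : X ≤ normalizer (W : Set G) := by
    rw [Subgroup.le_normalizer_iff, hW]
    rintro a ha _ ⟨b, hb, rfl⟩
    have hn : (pPrimeCore p X).Normal := Cfsg.Agent.Lib.Cores.pPrimeCore_normal p
    exact ⟨⟨a, ha⟩ * b * ⟨a, ha⟩⁻¹, hn.conj_mem b hb _, rfl⟩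
  have hWc : (Nat.card W).Coprime p := by
    rw [hW, Nat.card_congr ((pPrimeCore p X).equivMapOfInjective _ X.subtype_injective).toEquiv.symm]
    exact Cfsg.Agent.Lib.Cores.pPrimeCore_coprime p
  obtain ⟨q, hq, V, hVW, hV1, hVq, hVn⟩ := exists_pgroup_le_of_solvable hWs hW1
  have hVO : V ≤ piCoreOf {q} X := le_core_of_isPGroup hq (hVW.trans hWX) (hWn.trans hVn) hVq
  by_cases hqp : q = p
  · have h1 : q ∣ Nat.card W := dvd_card_of_ne_bot hq hVq hV1 hVW
    rw [hqp] at h1
    have := Nat.Coprime.eq_one_of_dvd hWc.symm h1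
    exact hp.one_lt.ne' this
  · rw [h q hq hqp] at hVO
    exact hV1 (le_bot_iff.1 hVO)

/-- The ZJ theorem for an odd order subgroup `X` with `O_{p'}(X) = 1`. -/
theorem le_normalizer_centerThompsonOf {X P : Subgroup G} {p : ℕ} [Fact p.Prime] (hodd : Odd (Nat.card X))
    (hX : Group.IsSolvable X) (hP : IsMaxP p X P) (hcore : pPrimeCore p X = ⊥) :
    X ≤ normalizer (centerThompsonOf p P : Set G) := by
  haveI := hX
  have h := Cfsg.Agent.S1458.result hodd p hP.toSylow
  rw [hcore, sup_bot_eq] at h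
  have h2 : centerThompsonOf p P = (centerThompsonOf p (hP.toSylow : Subgroup X)).map X.subtype := by
    rw [← Cfsg.Agent.PLocal.ZJElem.centerThompsonOf_map p X.subtype_injective, hP.map_subtype_toSylow]
  rw [h2, Subgroup.le_normalizer_iff]
  rintro a ha _ ⟨b, hb, rfl⟩
  exact ⟨⟨a, ha⟩ * b * ⟨a, ha⟩⁻¹, h.conj_mem b hb _, rfl⟩

/-- Frattini argument. -/
theorem normalizer_le_of_isMaxP {X P T : Subgroup G} {p : ℕ} [Fact p.Prime] (hP : IsMaxP p X P)
    (hXT : X ≤ normalizer (T : Set G)) (hPT : normalizer (P : Set G) ≤ normalizer (T : Set G)) :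
    normalizer (X : Set G) ≤ normalizer (T : Set G) := by
  intro g hg
  obtain ⟨c, hc, hcP⟩ := (hP.map_conj_mem hg).exists_conj hP
  have h1 : c * g ∈ normalizer (P : Set G) := by
    rw [Subgroup.mem_normalizer_iff_map_conj_eq]
    have h2 : (P.map (MulAut.conj g).toMonoidHom).map (MulAut.conj c).toMonoidHom =
        P.map (MulAut.conj (c * g)) := by
      rw [Subgroup.map_map]
      congr 1
      ext x
      simp [mul_assoc]
    rw [← h2, hcP]
  have h2 := (normalizer (T : Set G)).mul_mem ((normalizer (T : Set G)).inv_mem (hXT hc)) (hPT h1)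
  simpa using h2

variable {Y U : Subgroup G}

/-- Step (i): `O_p(Y) ≤ O_p(U)` if `O_p(U) ≠ 1`. -/
theorem core_le_core (hUY : U ≤ Y)
    (hbar : ∀ T : Subgroup G, T ≤ U → T ≠ ⊥ → normalizer (U : Set G) ≤ normalizer (T : Set G) →
      normalizer (T : Set G) ≤ normalizer (U : Set G))
    (hM : normalizer (U : Set G) ⊓ Y = U) {p : ℕ} (hp : p.Prime) (hU : piCoreOf {p} U ≠ ⊥) :
    piCoreOf {p} Y ≤ piCoreOf {p} U := by
  have := Fact.mk hp
  set Q := piCoreOf {p} U with hQ
  set R := piCoreOf {p} Y with hR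
  have hQp : IsPGroup p Q := isPGroup_piCoreOf hp U
  have hRp : IsPGroup p R := isPGroup_piCoreOf hp Y
  have hQU : Q ≤ U := piCoreOf_le _ _
  have hRY : R ≤ Y := piCoreOf_le _ _
  have hYR : Y ≤ normalizer (R : Set G) := le_normalizer_piCoreOf _ _
  have hNQ : normalizer (Q : Set G) ⊓ Y ≤ U := by
    rw [← hM]
    exact inf_le_inf_right _ (hbar Q hQU hU (normalizer_le_normalizer_piCoreOf _ _))
  -- `R ∩ U ≤ Q`
  have hRU : R ⊓ U ≤ Q := by
    refine le_core_of_isPGroup hp inf_le_right ?_ (hRp.to_le inf_le_left)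
    rw [Subgroup.le_normalizer_iff]
    intro a ha x hx
    exact ⟨(Subgroup.le_normalizer_iff.1 hYR) a (hUY ha) x hx.1, U.mul_mem (U.mul_mem ha hx.2) (U.inv_mem ha)⟩
  have hRQ : IsPGroup p ↥(R ⊔ Q) :=
    IsPGroup.to_sup_of_normal_left' hRp hQp ((hQU.trans hUY).trans hYR)
  have hcon : R ⊔ Q ≤ Q := by
    by_contra hne
    obtain ⟨x, hx, hxN, hxQ⟩ := exists_mem_normalizer hRQ le_sup_right hne
    obtain ⟨r, hr, q, hq, rfl⟩ := (Cfsg.Agent.SignalizersComponents.CoprimeBasic.mem_sup_iff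
      ((hQU.trans hUY).trans hYR) x).1 hx
    apply hxQ
    have hrN : r ∈ normalizer (Q : Set G) := by
      have := (normalizer (Q : Set G)).mul_mem hxN ((normalizer (Q : Set G)).inv_mem (Subgroup.le_normalizer hq))
      simpa using this
    exact Q.mul_mem (hRU ⟨hr, hNQ ⟨hrN, hRY hr⟩⟩) hq
  exact le_sup_left.trans hcon

/-- The centre of a nontrivial `p`-subgroup, as a subgroup of `G`, is nontrivial. -/
theorem inf_centralizer_ne_bot {Q : Subgroup G} {p : ℕ} [Fact p.Prime] (hQ : IsPGroup p Q) (h1 : Q ≠ ⊥) :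
    Q ⊓ centralizer (Q : Set G) ≠ ⊥ := by
  have : Nontrivial Q := (Subgroup.nontrivial_iff_ne_bot Q).mpr h1
  have := hQ.center_nontrivial
  obtain ⟨z, hz⟩ := exists_ne (1 : center Q)
  intro hbot
  apply hz
  have h1 : ((z : Q) : G) ∈ Q ⊓ centralizer (Q : Set G) := by
    refine ⟨(z : Q).2, ?_⟩
    refine Subgroup.mem_centralizer_iff.mpr fun y hy => ?_
    have h2 := Subgroup.mem_center_iff.mp z.2 ⟨y, hy⟩
    exact congrArg Subtype.val h2
  rw [hbot, Subgroup.mem_bot] at h1
  exact Subtype.ext (Subtype.ext h1)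

theorem normalizer_le_inf_centralizer (Q : Subgroup G) :
    normalizer (Q : Set G) ≤ normalizer ((Q ⊓ centralizer (Q : Set G) : Subgroup G) : Set G) := by
  intro g hg
  rw [mem_normalizer_iff_map_conj_eq] at hg ⊢
  have h := Cfsg.Agent.PLocal.ZJElem.map_inf_centralizer_self (f := (MulAut.conj g).toMonoidHom)
    (MulAut.conj g).injective Q
  rw [show Q.map (MulAut.conj g).toMonoidHom = Q from hg] at h
  exact h

/-- **Bender's method.** -/
theorem false_of_pair (hodd : Odd (Nat.card Y)) (hY : Group.IsSolvable Y) (hUY : U ≤ Y) (hU1 : U ≠ ⊥)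
    (hbar : ∀ T : Subgroup G, T ≤ U → T ≠ ⊥ → normalizer (U : Set G) ≤ normalizer (T : Set G) →
      normalizer (T : Set G) ≤ normalizer (U : Set G))
    (hM : normalizer (U : Set G) ⊓ Y = U)
    (hc : ∀ p : ℕ, p.Prime → piCoreOf {p} U = ⊥ → piCoreOf {p} Y = ⊥)
    (hH : ¬ normalizer (Y : Set G) ≤ normalizer (U : Set G)) : False := by
  have hUs : Group.IsSolvable U :=
    Group.isSolvable_of_isSolvable_injective (f := Subgroup.inclusion hUY) (Subgroup.inclusion_injective _)
  have hUodd : Odd (Nat.card U) := by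
    obtain ⟨k, hk⟩ := Subgroup.card_dvd_of_le hUY
    rw [hk] at hodd
    exact (Nat.odd_mul.1 hodd).1
  -- (i)
  have hle : ∀ p : ℕ, p.Prime → piCoreOf {p} Y ≤ piCoreOf {p} U := by
    intro p hp
    by_cases h : piCoreOf {p} U = ⊥
    · rw [hc p hp h]; exact bot_le
    · exact core_le_core hUY hbar hM hp h
  -- `O_q(U)` centralises `O_r(Y)` for `r ≠ q`
  have hcomm : ∀ q r : ℕ, q.Prime → r.Prime → q ≠ r →
      piCoreOf {q} U ≤ centralizer (piCoreOf {r} Y : Set G) := fun q r hq hr hqr =>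
    (core_le_centralizer_core hq hr hqr U).trans (centralizer_le (hle r hr))
  -- (iii) `O_p(Y) ≠ 1` if `O_p(U) ≠ 1`
  have hne : ∀ p : ℕ, p.Prime → piCoreOf {p} U ≠ ⊥ → piCoreOf {p} Y ≠ ⊥ := by
    intro p hp h1 h2
    have h3 : piCoreOf {p} U ≤ fittingOf Y := by
      refine le_fitting_of_forall hY ((piCoreOf_le _ _).trans hUY) fun q hq => ?_
      by_cases hpq : p = q
      · subst hpq
        rw [h2]
        intro x _
        rw [mem_centralizer_iff]
        intro y hy
        have : y = 1 := by simpa using hy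
        rw [this, one_mul, mul_one]
      · exact hcomm p q hp hq hpq
    have h4 := le_core_of_le_fittingOf hp h3 (isPGroup_piCoreOf hp U)
    rw [h2] at h4
    exact h1 (le_bot_iff.1 h4)
  -- the centre `Z_q` of `O_q(U)`
  have hZ : ∀ q : ℕ, q.Prime → piCoreOf {q} U ⊓ centralizer (piCoreOf {q} U : Set G) ≤ piCoreOf {q} Y := by
    intro q hq
    refine le_core_of_le_fittingOf hq ?_ ((isPGroup_piCoreOf hq U).to_le inf_le_left)
    refine le_fitting_of_forall hY (inf_le_left.trans ((piCoreOf_le _ _).trans hUY)) fun r hr => ?_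
    by_cases hqr : q = r
    · subst hqr
      exact inf_le_right.trans (centralizer_le (hle q hq))
    · exact inf_le_left.trans (hcomm q r hq hr hqr)
  -- (v)
  have hD : ∀ q : ℕ, q.Prime → piCoreOf {q} U ≠ ⊥ →
      Y ⊓ centralizer ((piCoreOf {q} Y ⊓ centralizer (piCoreOf {q} Y : Set G) : Subgroup G) : Set G) ≤ U := by
    intro q hq h1
    have := Fact.mk hq
    have hZ1 := inf_centralizer_ne_bot (isPGroup_piCoreOf hq U) h1
    have hN := hbar _ (inf_le_left.trans (piCoreOf_le _ _)) hZ1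
      ((normalizer_le_normalizer_piCoreOf _ _).trans (normalizer_le_inf_centralizer _))
    rw [← hM, inf_comm]
    refine inf_le_inf_right _ (le_trans ?_ hN)
    refine le_trans (centralizer_le ?_) (centralizer_le_normalizer _)
    exact le_inf (hZ q hq) (inf_le_right.trans (centralizer_le (hle q hq)))
  -- (vi) there is only one prime
  obtain ⟨p, hp, hp1⟩ := exists_core_ne_bot hUs hU1
  have := Fact.mk hp
  have huniq : ∀ q : ℕ, q.Prime → q ≠ p → piCoreOf {q} U = ⊥ := by
    intro q hq hqp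
    by_contra hq1
    set D := Y ⊓ centralizer ((piCoreOf {q} Y ⊓ centralizer (piCoreOf {q} Y : Set G) : Subgroup G) : Set G)
      with hDdef
    have hDU : D ≤ U := hD q hq hq1
    have hYD : Y ≤ normalizer (D : Set G) := by
      have h1 : Y ≤ normalizer ((piCoreOf {q} Y ⊓ centralizer (piCoreOf {q} Y : Set G) : Subgroup G) : Set G) :=
        (le_normalizer_piCoreOf _ _).trans (normalizer_le_inf_centralizer _)
      have h2 := h1.trans (Cfsg.Agent.OddOrderLocal.Transitivity.normalizer_centralizer_ge _)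
      rw [Subgroup.le_normalizer_iff] at h2 ⊢
      intro a ha x hx
      exact ⟨Y.mul_mem (Y.mul_mem ha hx.1) (Y.inv_mem ha), h2 a ha x hx.2⟩
    have hpD : piCoreOf {p} U ≤ D := by
      refine le_inf ((piCoreOf_le _ _).trans hUY) ?_
      exact (hcomm p q hp hq hqp.symm).trans (centralizer_le inf_le_left)
    have hpD2 : piCoreOf {p} U ≤ piCoreOf {p} D :=
      le_core_of_isPGroup hp hpD (hDU.trans (le_normalizer_piCoreOf _ _)) (isPGroup_piCoreOf hp U)
    have hpD3 : piCoreOf {p} D ≤ piCoreOf {p} Y :=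
      le_core_of_isPGroup hp ((piCoreOf_le _ _).trans inf_le_left)
        (hYD.trans (normalizer_le_normalizer_piCoreOf _ _)) (isPGroup_piCoreOf hp D)
    have heq : piCoreOf {p} U = piCoreOf {p} Y := le_antisymm (hpD2.trans hpD3) (hle p hp)
    apply hH
    refine le_trans ?_ (hbar _ (piCoreOf_le _ _) hp1 (normalizer_le_normalizer_piCoreOf _ _))
    rw [heq]
    exact normalizer_le_normalizer_piCoreOf _ _
  have hYuniq : ∀ q : ℕ, q.Prime → q ≠ p → piCoreOf {q} Y = ⊥ := fun q hq hqp => hc q hq (huniq q hq hqp)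
  -- (vii) ZJ
  obtain ⟨P, hP, -⟩ := exists_isMaxP (p := p) (C := U) (W := ⊥) IsPGroup.of_bot bot_le
  have hP1 : P ≠ ⊥ := by
    intro h
    have h2 := hP.exists_conj_le (isPGroup_piCoreOf hp U) (piCoreOf_le _ _)
    obtain ⟨c, -, h3⟩ := h2
    rw [h, le_bot_iff, Subgroup.map_eq_bot_iff_of_injective _ (MulAut.conj c).injective] at h3
    exact hp1 h3
  set T := centerThompsonOf p P with hT
  have hT1 : T ≠ ⊥ := Cfsg.Agent.S0117.centerThompsonOf_ne_bot hP.1 hP1
  have hUT : U ≤ normalizer (T : Set G) :=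
    le_normalizer_centerThompsonOf hUodd hUs hP (pPrimeCore_eq_bot hUs hp huniq)
  have hTP : T ≤ P := Cfsg.Agent.PLocal.ZJElem.centerThompsonOf_le p P
  have hMT : normalizer (U : Set G) ≤ normalizer (T : Set G) :=
    normalizer_le_of_isMaxP hP hUT (Cfsg.Agent.PLocal.ZJElem.normalizer_le_normalizer_centerThompsonOf p P)
  have hNT := hbar T (hTP.trans hP.2.1) hT1 hMT
  -- `P` is a Sylow `p`-subgroup of `Y`
  have hPY : IsMaxP p Y P := by
    refine ⟨hP.1, hP.2.1.trans hUY, ?_⟩
    intro R' h1 h2 h3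
    by_contra hne'
    obtain ⟨x, hx, hxN, hxP⟩ := exists_mem_normalizer h1 h3 hne'
    have hxU : x ∈ U := by
      rw [← hM]
      exact ⟨hNT (Cfsg.Agent.PLocal.ZJElem.normalizer_le_normalizer_centerThompsonOf p P hxN), h2 hx⟩
    have hPx : IsPGroup p ↥(P ⊔ zpowers x) := h1.to_le (sup_le h3 (by rwa [zpowers_le]))
    have h5 := hP.2.2 (P ⊔ zpowers x) hPx (sup_le hP.2.1 (by rwa [zpowers_le])) le_sup_left
    exact hxP (h5 (le_sup_right (a := P) (mem_zpowers x)))
  have hYT : Y ≤ normalizer (T : Set G) :=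
    le_normalizer_centerThompsonOf hodd hY hPY (pPrimeCore_eq_bot hY hp hYuniq)
  exact hH ((normalizer_le_of_isMaxP hPY hYT
    (Cfsg.Agent.PLocal.ZJElem.normalizer_le_normalizer_centerThompsonOf p P)).trans hNT)

end Cfsg.Agent.NineCore.BenderPair
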