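import Cfsg.Prelude.Def_Local
import Cfsg.Prelude.Def_TwoFusion
import Cfsg.Agent.Lib.Cores
import Cfsg.Agent.SignalizersComponents.CoreOfCentralizer
import Cfsg.Agent.S0215
import Cfsg.Agent.S1180

/-!
# Involutions `z` with a projection `C_G(z) → X` with odd kernel

Basic vocabulary for killing cores of involution centralisers.
-/

set_option autoImplicit false
set_option linter.unusedSectionVars false

namespace Cfsg.Agent.NineCore.Proj

open Subgroup Cfsg

universe u v

section General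

variable {G : Type u} [Group G]

/-- Two involutions whose product lies in a subgroup of odd order are conjugate under that subgroup. -/
theorem exists_conj_of_odd {x y : G} (hx : x * x = 1) (hy : y * y = 1) {N : Subgroup G} [Finite N]
    (hN : Odd (Nat.card N)) (hxy : x * y ∈ N) : ∃ k ∈ N, k * y * k⁻¹ = x := by
  obtain ⟨d, hd⟩ : ∃ d, d = x * y := ⟨_, rfl⟩
  obtain ⟨m, hm⟩ := hN
  have hdm : d ^ (Nat.card N) = 1 := by
    have h : (⟨x * y, hxy⟩ : N) ^ (Nat.card N) = 1 := pow_card_eq_one'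
    have h2 : ((⟨x * y, hxy⟩ : N) ^ (Nat.card N) : N).1 = 1 := by rw [h]; rfl
    rw [SubmonoidClass.coe_pow] at h2
    rw [hd]
    exact h2
  have hinv : d⁻¹ = y * x := by
    rw [hd, mul_inv_rev, inv_eq_of_mul_eq_one_left hy, inv_eq_of_mul_eq_one_left hx]
  have hyd : y * d * y⁻¹ = d⁻¹ := by
    rw [hinv, hd, inv_eq_of_mul_eq_one_left hy]
    calc y * (x * y) * y = y * x * (y * y) := by group
      _ = y * x := by rw [hy, mul_one]
  have hyk : ∀ j : ℕ, y * d ^ j * y⁻¹ = (d ^ j)⁻¹ := by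
    intro j
    rw [← conj_pow, hyd, inv_pow]
  refine ⟨d ^ (m + 1), N.pow_mem (hd ▸ hxy) _, ?_⟩
  have h1 : d ^ (m + 1) * y * (d ^ (m + 1))⁻¹ = y * ((d ^ (m + 1))⁻¹ * (d ^ (m + 1))⁻¹) := by
    have h2 := hyk (m + 1)
    have h3 : d ^ (m + 1) * y = y * (d ^ (m + 1))⁻¹ := by
      have h4 : y * (d ^ (m + 1))⁻¹ = d ^ (m + 1) * y := by
        have h5 := congrArg (fun t => t⁻¹) h2
        simp only [mul_inv_rev, inv_inv] at h5
        have h6 : y * (d ^ (m + 1))⁻¹ * y⁻¹ = d ^ (m + 1) := by rw [mul_assoc]; exact h5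
        exact mul_inv_eq_iff_eq_mul.1 h6
      exact h4.symm
    rw [h3]; group
  have h2 : (d ^ (m + 1))⁻¹ * (d ^ (m + 1))⁻¹ = d⁻¹ := by
    rw [← mul_inv_rev, ← pow_add]
    congr 1
    have : m + 1 + (m + 1) = Nat.card N + 1 := by omega
    rw [this, pow_succ, hdm, one_mul]
  rw [h1, h2, hinv, ← mul_assoc, hy, one_mul]

theorem orderOf_two_iff {x : G} : orderOf x = 2 ↔ x * x = 1 ∧ x ≠ 1 := by
  rw [← pow_two]
  constructor
  · intro h
    refine ⟨h ▸ pow_orderOf_eq_one x, fun h1 => ?_⟩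
    rw [h1, orderOf_one] at h
    omega
  · rintro ⟨h1, h2⟩
    exact orderOf_eq_prime h1 h2

theorem eq_one_of_odd {x : G} (hx : x * x = 1) {N : Subgroup G} [Finite N] (hN : Odd (Nat.card N)) (hxN : x ∈ N) :
    x = 1 := by
  by_contra h
  have h1 : orderOf x = 2 := orderOf_two_iff.2 ⟨hx, h⟩
  have h2 : orderOf (⟨x, hxN⟩ : N) = 2 := by rw [← h1]; exact (Subgroup.orderOf_coe _).symm
  have h3 : 2 ∣ Nat.card N := by rw [← h2]; exact orderOf_dvd_natCard _
  exact (Nat.not_even_iff_odd.2 hN) (even_iff_two_dvd.2 h3)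

theorem odd_of_le [Finite G] {A B : Subgroup G} (h : A ≤ B) (hB : Odd (Nat.card B)) : Odd (Nat.card A) := by
  obtain ⟨k, hk⟩ := Subgroup.card_dvd_of_le h
  rw [hk] at hB
  exact (Nat.odd_mul.1 hB).1

theorem not_two_dvd {n : ℕ} (h : Odd n) : ¬ 2 ∣ n := fun h2 => (Nat.not_even_iff_odd.2 h) (even_iff_two_dvd.2 h2)

theorem odd_of_not_two_dvd {n : ℕ} (h : ¬ 2 ∣ n) : Odd n := by
  rw [← Nat.not_even_iff_odd, even_iff_two_dvd]; exact h

theorem odd_card_map {H : Type*} [Group H] (f : G →* H) {A : Subgroup G} [Finite A] (hA : Odd (Nat.card A)) :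
    Odd (Nat.card (A.map f)) := by
  obtain ⟨k, hk⟩ := Subgroup.card_map_dvd A f
  rw [hk] at hA
  exact (Nat.odd_mul.1 hA).1

end General

theorem conj_mem_centralizer {G : Type u} [Group G] {a x : G} (g : G) (hx : x ∈ centralizer ({a} : Set G)) :
    g * x * g⁻¹ ∈ centralizer ({g * a * g⁻¹} : Set G) := by
  rw [mem_centralizer_singleton_iff] at hx ⊢
  calc g * x * g⁻¹ * (g * a * g⁻¹) = g * (x * a) * g⁻¹ := by group
    _ = g * (a * x) * g⁻¹ := by rw [hx]
    _ = g * a * g⁻¹ * (g * x * g⁻¹) := by group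

theorem inv_conj_mem_centralizer {G : Type u} [Group G] {a x g : G} (hx : x ∈ centralizer ({g * a * g⁻¹} : Set G)) :
    g⁻¹ * x * g ∈ centralizer ({a} : Set G) := by
  rw [mem_centralizer_singleton_iff] at hx ⊢
  calc g⁻¹ * x * g * a = g⁻¹ * (x * (g * a * g⁻¹)) * g := by group
    _ = g⁻¹ * (g * a * g⁻¹ * x) * g := by rw [hx]
    _ = a * (g⁻¹ * x * g) := by group

/-! ### Z* -/

/-- An isolated involution is central modulo an odd normal subgroup. -/
theorem exists_zstar {G : Type u} [Group G] [Finite G] {z : G} (hz : IsIsolatedInvolution z) :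
    ∃ N : Subgroup G, N.Normal ∧ Odd (Nat.card N) ∧ ∀ g : G, z * g * z⁻¹ * g⁻¹ ∈ N := by
  have : Fact (Nat.Prime 2) := ⟨Nat.prime_two⟩
  have hp : IsPGroup 2 (zpowers z) := by
    rw [IsPGroup.iff_card]
    exact ⟨1, by rw [Nat.card_zpowers, hz.1, pow_one]⟩
  obtain ⟨P, hP⟩ := hp.exists_le_sylow
  have hzP : z ∈ P := hP (mem_zpowers z)
  exact Cfsg.Agent.S0215.result P z hz.1 hzP fun g hg =>
    Cfsg.Agent.S1180.eq_of_conj_mem_isPGroup z hz (P : Subgroup G) P.isPGroup' hzP g hg

/-- Relative form of `exists_zstar` in a subgroup `M` of `G`. -/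
theorem exists_zstar_subgroup {G : Type u} [Group G] [Finite G] {z : G} {M : Subgroup G} (hzM : z ∈ M)
    (hz : IsIsolatedInvolution (⟨z, hzM⟩ : M)) :
    ∃ R : Subgroup G, R ≤ M ∧ M ≤ normalizer (R : Set G) ∧ Odd (Nat.card R) ∧ ∀ g ∈ M, z * g * z⁻¹ * g⁻¹ ∈ R := by
  obtain ⟨N, hN, hodd, hc⟩ := exists_zstar hz
  refine ⟨N.map M.subtype, Subgroup.map_subtype_le _, ?_, odd_card_map _ hodd, ?_⟩
  · rw [Subgroup.le_normalizer_iff]
    rintro a ha _ ⟨b, hb, rfl⟩
    exact ⟨⟨a, ha⟩ * b * ⟨a, ha⟩⁻¹, hN.conj_mem b hb _, rfl⟩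
  · intro g hg
    exact ⟨_, hc ⟨g, hg⟩, rfl⟩

/-! ### The core of a centraliser -/

/-- `O(C_G(x))` -/
abbrev core {G : Type u} [Group G] (x : G) : Subgroup G := centralizerPPrimeCore 2 x

section Core

variable {G : Type u} [Group G] [Finite G]

theorem core_le (a : G) : core a ≤ centralizer ({a} : Set G) := Subgroup.map_subtype_le _

theorem core_odd (a : G) : Odd (Nat.card (core a)) := by
  rw [← Nat.coprime_two_right]
  exact Cfsg.Agent.SignalizersComponents.CoreOfCentralizer.card_centralizerPPrimeCore_coprime 2 a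

theorem centralizer_le_normalizer_core (a : G) : centralizer ({a} : Set G) ≤ normalizer (core a : Set G) :=
  Cfsg.Agent.SignalizersComponents.CoreOfCentralizer.centralizer_le_normalizer_centralizerPPrimeCore 2 a

theorem le_core {a : G} {N : Subgroup G} (hN : N ≤ centralizer ({a} : Set G))
    (hnorm : centralizer ({a} : Set G) ≤ normalizer (N : Set G)) (hodd : Odd (Nat.card N)) : N ≤ core a := by
  have h1 : (N.subgroupOf (centralizer ({a} : Set G))).Normal :=
    (Subgroup.normal_subgroupOf_iff_le_normalizer hN).2 hnorm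
  have h2 : N.subgroupOf (centralizer ({a} : Set G)) ≤ pPrimeCore 2 (centralizer ({a} : Set G)) := by
    refine Lib.Cores.le_pPrimeCore h1 ?_
    rw [Nat.card_congr (Subgroup.subgroupOfEquivOfLe hN).toEquiv, Nat.coprime_two_right]
    exact hodd
  have h3 := Subgroup.map_mono (f := (centralizer ({a} : Set G)).subtype) h2
  rwa [Subgroup.map_subgroupOf_eq_of_le hN] at h3

theorem map_core_le (a g : G) : (core a).map (MulAut.conj g).toMonoidHom ≤ core (g * a * g⁻¹) := by
  refine le_core ?_ ?_ (odd_card_map _ (core_odd a))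
  · rintro _ ⟨x, hx, rfl⟩
    exact conj_mem_centralizer g (core_le a hx)
  · rw [Subgroup.le_normalizer_iff]
    rintro c hc _ ⟨x, hx, rfl⟩
    have hc' : g⁻¹ * c * g ∈ centralizer ({a} : Set G) := by
      have := conj_mem_centralizer g⁻¹ hc
      rw [inv_inv] at this
      convert this using 2
      group
    refine ⟨g⁻¹ * c * g * x * (g⁻¹ * c * g)⁻¹,
      (Subgroup.le_normalizer_iff.1 (centralizer_le_normalizer_core a)) _ hc' x hx, ?_⟩
    simp only [MulEquiv.coe_toMonoidHom, MulAut.conj_apply]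
    group

theorem core_conj (a g : G) : core (g * a * g⁻¹) = (core a).map (MulAut.conj g).toMonoidHom := by
  apply le_antisymm _ (map_core_le a g)
  have h := map_core_le (g * a * g⁻¹) g⁻¹
  intro x hx
  have hx' := h ⟨x, hx, rfl⟩
  refine ⟨g⁻¹ * x * g, ?_, ?_⟩
  · have e : g⁻¹ * (g * a * g⁻¹) * g⁻¹⁻¹ = a := by group
    rw [e] at hx'
    have e2 : (MulAut.conj g⁻¹).toMonoidHom x = g⁻¹ * x * g := by simp
    rw [← e2]
    exact hx'
  · simp only [MulEquiv.coe_toMonoidHom, MulAut.conj_apply]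
    group

end Core

/-! ### Projections with odd kernel -/

theorem mem_self {G : Type u} [Group G] (z : G) : z ∈ centralizer ({z} : Set G) := mem_centralizer_singleton_iff.2 rfl

/-- The data of a surjection `C_G(z) → X` with kernel of odd order, `z ↦ z₀`. -/
structure Quo {X : Type v} [Group X] (z₀ : X) {G : Type u} [Group G] (z : G) where
  /-- the projection -/
  π : centralizer ({z} : Set G) →* X
  surj : Function.Surjective π
  odd : Odd (Nat.card π.ker)
  map_z : π ⟨z, mem_self z⟩ = z₀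

section Quo

variable {X : Type v} [Group X] {z₀ : X} {G : Type u} [Group G]

theorem Quo.map_eq_one_iff [Finite G] {z : G} (q : Quo z₀ z)
    (hX : ∀ N : Subgroup X, N.Normal → Odd (Nat.card N) → N = ⊥) (x : centralizer ({z} : Set G)) :
    (x : G) ∈ core z ↔ q.π x = 1 := by
  have hker : pPrimeCore 2 (centralizer ({z} : Set G)) = q.π.ker := by
    apply le_antisymm
    · have h1 : ((pPrimeCore 2 (centralizer ({z} : Set G))).map q.π) = ⊥ := by
        apply hX
        · exact (Lib.Cores.pPrimeCore_normal 2).map _ q.surj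
        · apply odd_card_map
          rw [← Nat.coprime_two_right]
          exact Lib.Cores.pPrimeCore_coprime 2
      intro y hy
      have : q.π y ∈ ((pPrimeCore 2 (centralizer ({z} : Set G))).map q.π) := ⟨y, hy, rfl⟩
      rw [h1, Subgroup.mem_bot] at this
      exact this
    · refine Lib.Cores.le_pPrimeCore inferInstance ?_
      rw [Nat.coprime_two_right]
      exact q.odd
  have h2 : (x : G) ∈ core z ↔ x ∈ pPrimeCore 2 (centralizer ({z} : Set G)) := by
    constructor
    · rintro ⟨y, hy, hyx⟩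
      have : y = x := Subtype.ext hyx
      rwa [← this]
    · intro h
      exact ⟨x, h, rfl⟩
  rw [h2, hker, MonoidHom.mem_ker]

/-- Lifting elements commuting with an involution. -/
theorem exists_lift_commute {C : Type u} [Group C] [Finite C] {π : C →* X} (hs : Function.Surjective π)
    (hodd : Odd (Nat.card π.ker)) {a : C} (ha : a * a = 1) {y : X} (hy : y * π a = π a * y) :
    ∃ c : C, c * a = a * c ∧ π c = y := by
  obtain ⟨c, rfl⟩ := hs y
  obtain ⟨k, hk, hk2⟩ := exists_conj_of_odd (x := a) (y := c * a * c⁻¹) (N := π.ker) ha (by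
    calc c * a * c⁻¹ * (c * a * c⁻¹) = c * (a * a) * c⁻¹ := by group
      _ = 1 := by rw [ha]; group) hodd (by
    rw [MonoidHom.mem_ker, map_mul, map_mul, map_mul, map_inv, hy, mul_inv_cancel_right, ← map_mul, ha, map_one])
  refine ⟨k * c, ?_, ?_⟩
  · have h : k * c * a * (k * c)⁻¹ = a := by
      calc k * c * a * (k * c)⁻¹ = k * (c * a * c⁻¹) * k⁻¹ := by group
        _ = a := hk2
    exact mul_inv_eq_iff_eq_mul.1 h
  · rw [map_mul, MonoidHom.mem_ker.1 hk, one_mul]

/-- Lifting conjugacy of involutions. -/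
theorem exists_lift_conj {C : Type u} [Group C] [Finite C] {π : C →* X} (hs : Function.Surjective π)
    (hodd : Odd (Nat.card π.ker)) {a b : C} (ha : a * a = 1) (hb : b * b = 1) {y : X}
    (hy : y * π a * y⁻¹ = π b) : ∃ c : C, c * a * c⁻¹ = b ∧ π c = y := by
  obtain ⟨c, rfl⟩ := hs y
  obtain ⟨k, hk, hk2⟩ := exists_conj_of_odd (x := b) (y := c * a * c⁻¹) (N := π.ker) hb (by
    calc c * a * c⁻¹ * (c * a * c⁻¹) = c * (a * a) * c⁻¹ := by group
      _ = 1 := by rw [ha]; group) hodd (by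
    rw [MonoidHom.mem_ker, map_mul, map_mul, map_mul, map_inv, hy, ← map_mul, hb, map_one])
  refine ⟨k * c, ?_, ?_⟩
  · rw [← hk2]; group
  · rw [map_mul, MonoidHom.mem_ker.1 hk, one_mul]

/-- Lifting a `2`-subgroup. -/
theorem exists_lift_two_subgroup {C : Type u} [Group C] [Finite C] {π : C →* X} (hs : Function.Surjective π)
    {E : Subgroup X} (hE : IsPGroup 2 E) :
    ∃ S : Subgroup C, IsPGroup 2 S ∧ S.map π = E := by
  have : Fact (Nat.Prime 2) := ⟨Nat.prime_two⟩
  set K := E.comap π with hK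
  obtain ⟨S⟩ : Nonempty (Sylow 2 K) := inferInstance
  refine ⟨(S : Subgroup K).map K.subtype, S.2.map _, ?_⟩
  have hmap : K.map π = E := Subgroup.map_comap_eq_self_of_surjective hs E
  -- the restriction of `π` to `K` is onto `E`
  let ρ : K →* E := (π.comp K.subtype).codRestrict E (fun x => x.2)
  have hρ : Function.Surjective ρ := by
    rintro ⟨y, hy⟩
    obtain ⟨c, rfl⟩ := hs y
    exact ⟨⟨c, hy⟩, rfl⟩
  have h1 : Nat.card (E ⧸ ((S : Subgroup K).map ρ)) = 1 := by
    have h2 : ((S : Subgroup K).map ρ).index ∣ (S : Subgroup K).index := Subgroup.index_map_dvd _ hρ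
    have h3 : ¬ 2 ∣ (S : Subgroup K).index := S.not_dvd_index
    have hfin : Finite E := Finite.of_surjective ρ hρ
    obtain ⟨k, hk⟩ := IsPGroup.iff_card.1 hE
    have h4 : ((S : Subgroup K).map ρ).index ∣ Nat.card E := Subgroup.index_dvd_card _
    rw [hk] at h4
    obtain ⟨j, -, hj⟩ := (Nat.dvd_prime_pow Nat.prime_two).1 h4
    change ((S : Subgroup K).map ρ).index = 1
    rcases Nat.eq_zero_or_pos j with h5 | h5
    · rw [hj, h5, pow_zero]
    · exact absurd ((dvd_pow_self 2 h5.ne').trans (hj ▸ h2)) h3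
  have h5 : (S : Subgroup K).map ρ = ⊤ := Subgroup.index_eq_one.1 h1
  rw [Subgroup.map_map]
  have h6 : π.comp K.subtype = E.subtype.comp ρ := rfl
  rw [h6, ← Subgroup.map_map, h5, ← MonoidHom.range_eq_map, Subgroup.range_subtype]

/-- Transport of the projection by conjugation. -/
def Quo.conj {z : G} (q : Quo z₀ z) (g : G) : Quo z₀ (g * z * g⁻¹) where
  π := q.π.comp
    { toFun := fun x => ⟨g⁻¹ * x * g, inv_conj_mem_centralizer x.2⟩
      map_one' := Subtype.ext (by simp)
      map_mul' := fun x y => Subtype.ext (by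
        change g⁻¹ * ((x : G) * y) * g = g⁻¹ * x * g * (g⁻¹ * y * g)
        group) }
  surj := by
    intro y
    obtain ⟨x, rfl⟩ := q.surj y
    refine ⟨⟨g * x * g⁻¹, conj_mem_centralizer g x.2⟩, ?_⟩
    apply congrArg q.π
    apply Subtype.ext
    change g⁻¹ * (g * (x : G) * g⁻¹) * g = x
    group
  odd := by
    have h := q.odd
    convert h using 1
    apply Nat.card_congr
    refine ⟨fun x => ⟨⟨g⁻¹ * ((x : centralizer ({g * z * g⁻¹} : Set G)) : G) * g, ?_⟩, ?_⟩,
      fun x => ⟨⟨g * ((x : centralizer ({z} : Set G)) : G) * g⁻¹, ?_⟩, ?_⟩, ?_, ?_⟩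
    · exact inv_conj_mem_centralizer x.1.2
    · exact x.2
    · exact conj_mem_centralizer g x.1.2
    · rw [MonoidHom.mem_ker]
      have h2 := MonoidHom.mem_ker.1 x.2
      rw [← h2]
      apply congrArg q.π
      apply Subtype.ext
      change g⁻¹ * (g * ((x : centralizer ({z} : Set G)) : G) * g⁻¹) * g = x
      group
    · intro x
      apply Subtype.ext
      apply Subtype.ext
      change g * (g⁻¹ * ((x : centralizer ({g * z * g⁻¹} : Set G)) : G) * g) * g⁻¹ = x
      group
    · intro x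
      apply Subtype.ext
      apply Subtype.ext
      change g⁻¹ * (g * ((x : centralizer ({z} : Set G)) : G) * g⁻¹) * g = x
      group
  map_z := by
    refine (congrArg q.π (Subtype.ext ?_)).trans q.map_z
    change g⁻¹ * (g * z * g⁻¹) * g = z
    group

end Quo

end Cfsg.Agent.NineCore.Proj
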