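import Cfsg.Agent.NineCore.Proj
import Cfsg.Agent.NineCore.BenderPair
import Cfsg.Agent.SignalizersComponents.CoprimeGen
import Cfsg.Agent.SignalizersComponents.LocalGlobal

/-!
# Killing the core of an involution centraliser (no target group)

Bender's method together with the solvable signalizer functor theorem: in a minimal group `G` having an involution
`z` with `C_G(z)/O(C_G(z)) ≅ X` which is not isolated, `O(C_G(z)) = 1`, provided that `X` satisfies `CoreHyp`.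
-/

set_option autoImplicit false
set_option linter.unusedSectionVars false

namespace Cfsg.Agent.NineCore.NoTarget

open Subgroup Cfsg
open Cfsg.Agent.NineCore.Proj
open Cfsg.Agent.OddOrderLocal.PiCoreOf Cfsg.Agent.OddOrderLocal.FitCores

universe u v

/-- The hypotheses on the group `X` and its central involution `z₀`. -/
structure CoreHyp (X : Type v) [Group X] (z₀ : X) (r : ℕ) : Prop where
  ord : z₀ * z₀ = 1
  ne : z₀ ≠ 1
  core : ∀ N : Subgroup X, N.Normal → Odd (Nat.card N) → N = ⊥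
  fus : ∀ v w : X, v * v = 1 → v ≠ 1 → v ≠ z₀ → w * w = 1 → w ≠ 1 → w ≠ z₀ → ∃ g, g * v * g⁻¹ = w
  bal : ∀ v : X, v * v = 1 → v ≠ 1 → v ≠ z₀ → ∀ N : Subgroup X, N ≤ centralizer ({v} : Set X) →
    centralizer ({v} : Set X) ≤ normalizer (N : Set X) → Odd (Nat.card N) → N = ⊥
  rank : 3 ≤ r
  exists_elem : ∃ E : Subgroup X, IsElementaryAbelian 2 E ∧ Nat.card E = 2 ^ r ∧ z₀ ∈ E
  sig : ∀ E : Subgroup X, IsElementaryAbelian 2 E → Nat.card E = 2 ^ r → z₀ ∈ E →
    ∀ D : Subgroup X, E ≤ normalizer (D : Set X) → Odd (Nat.card D) → D = ⊥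

/-- The solvable signalizer functor theorem at the prime 2 (S0217). -/
def SFStatement : Prop :=
  ∀ (G : Type u) [Group G] [Finite G] (A : Subgroup G), (∀ a ∈ A, ∀ b ∈ A, a * b = b * a) → (∀ a ∈ A, a ^ 2 = 1) →
    2 ^ 3 ≤ Nat.card A → ∀ θ : G → Subgroup G, (∀ a ∈ A, a ≠ 1 → θ a ≤ centralizer {a}) →
    (∀ a ∈ A, a ≠ 1 → ¬ 2 ∣ Nat.card (θ a)) → (∀ a ∈ A, a ≠ 1 → ∀ b ∈ A, ∀ x ∈ θ a, b * x * b⁻¹ ∈ θ a) →
    (∀ a ∈ A, a ≠ 1 → Group.IsSolvable (θ a)) →
    (∀ a ∈ A, a ≠ 1 → ∀ b ∈ A, b ≠ 1 → θ a ⊓ centralizer {b} ≤ θ b) →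
    ¬ 2 ∣ Nat.card ↥(⨆ a : {a : G // a ∈ A ∧ a ≠ 1}, θ a) ∧
      ∀ a ∈ A, a ≠ 1 → (⨆ b : {a : G // a ∈ A ∧ a ≠ 1}, θ b) ⊓ centralizer {a} = θ a

/-- The odd order theorem (S0205). -/
def FTStatement : Prop := ∀ (G : Type u) [Group G] [Finite G], Odd (Nat.card G) → Group.IsSolvable G

variable {X : Type v} [Group X] {z₀ : X} {r : ℕ} {G : Type u} [Group G]

/-- The situation in a minimal counterexample. -/
structure MinCtx (z₀ : X) (r : ℕ) (G : Type u) [Group G] : Prop where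
  hX : CoreHyp X z₀ r
  ft : FTStatement.{u}
  sf : SFStatement.{u}
  quo : ∀ x : G, orderOf x = 2 → Nonempty (Quo z₀ x)
  conj : ∀ x y : G, orderOf x = 2 → orderOf y = 2 → ∃ g : G, g * x * g⁻¹ = y
  hO : ∀ N : Subgroup G, N.Normal → Odd (Nat.card N) → N = ⊥
  sub : ∀ z : G, orderOf z = 2 → ∀ q : Quo z₀ z, ∀ M : Subgroup G, M ≠ ⊤ → ∀ hz : z ∈ M,
    (∀ y : X, ∃ c : centralizer ({z} : Set G), (c : G) ∈ M ∧ q.π c = y) → IsIsolatedInvolution (⟨z, hz⟩ : M)

/-- `Y_A` -/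
def Y (A : Subgroup G) : Subgroup G := ⨆ a : {a : G // a ∈ A ∧ a ≠ 1}, core (a : G)

theorem core_le_Y {A : Subgroup G} {a : G} (ha : a ∈ A) (ha1 : a ≠ 1) : core a ≤ Y A :=
  le_iSup (fun a : {a : G // a ∈ A ∧ a ≠ 1} => core (a : G)) ⟨a, ha, ha1⟩

theorem Y_mono {A B : Subgroup G} (h : A ≤ B) : Y A ≤ Y B :=
  iSup_le fun a => core_le_Y (h a.2.1) a.2.2

theorem elem_comm {A : Subgroup G} (hA : IsElementaryAbelian 2 A) : ∀ a ∈ A, ∀ b ∈ A, a * b = b * a := by
  intro a ha b hb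
  have := hA.1.is_comm.comm (⟨a, ha⟩ : A) ⟨b, hb⟩
  exact congrArg Subtype.val this

theorem elem_sq {A : Subgroup G} (hA : IsElementaryAbelian 2 A) : ∀ a ∈ A, a * a = 1 := by
  intro a ha
  rw [← pow_two]
  exact hA.2 a ha

theorem elem_mono {A B : Subgroup G} (h : A ≤ B) (hB : IsElementaryAbelian 2 B) : IsElementaryAbelian 2 A :=
  ⟨⟨⟨fun x y => Subtype.ext (elem_comm hB _ (h x.2) _ (h y.2))⟩⟩, fun a ha => hB.2 a (h ha)⟩

theorem elem_mk {A : Subgroup G} (h1 : ∀ a ∈ A, ∀ b ∈ A, a * b = b * a) (h2 : ∀ a ∈ A, a * a = 1) :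
    IsElementaryAbelian 2 A :=
  ⟨⟨⟨fun x y => Subtype.ext (h1 _ x.2 _ y.2)⟩⟩, fun a ha => by rw [pow_two]; exact h2 a ha⟩

variable [Finite G]

theorem Y_conj (A : Subgroup G) (g : G) :
    Y (A.map (MulAut.conj g).toMonoidHom) = (Y A).map (MulAut.conj g).toMonoidHom := by
  unfold Y
  rw [Subgroup.map_iSup]
  apply le_antisymm
  · refine iSup_le ?_
    rintro ⟨_, ⟨a, ha, rfl⟩, ha1⟩
    have h1 : a ≠ 1 := fun h => ha1 (by rw [h, map_one])
    refine le_trans ?_ (le_iSup _ (⟨a, ha, h1⟩ : {a : G // a ∈ A ∧ a ≠ 1}))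
    have : (MulAut.conj g).toMonoidHom a = g * a * g⁻¹ := rfl
    change core ((MulAut.conj g).toMonoidHom a) ≤ _
    rw [this, core_conj]
  · refine iSup_le ?_
    rintro ⟨a, ha, ha1⟩
    have h1 : g * a * g⁻¹ ≠ 1 := fun h => ha1 (by simpa using h)
    refine le_trans ?_ (le_iSup _ (⟨g * a * g⁻¹, ⟨a, ha, rfl⟩, h1⟩ :
      {a : G // a ∈ A.map (MulAut.conj g).toMonoidHom ∧ a ≠ 1}))
    change _ ≤ core (g * a * g⁻¹)
    rw [core_conj]

/-- The balance condition. -/
theorem balance (h : MinCtx z₀ r G) {a b : G} (ha : orderOf a = 2) (hb : orderOf b = 2) (hab : a * b = b * a) :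
    core a ⊓ centralizer ({b} : Set G) ≤ core b := by
  by_cases hne : a = b
  · subst hne; exact inf_le_left
  obtain ⟨q⟩ := h.quo b hb
  have ha2 := orderOf_two_iff.1 ha
  have hb2 := orderOf_two_iff.1 hb
  set C := centralizer ({b} : Set G) with hC
  have haC : a ∈ C := mem_centralizer_singleton_iff.2 hab
  set a' : C := ⟨a, haC⟩ with ha'
  have ha'2 : a' * a' = 1 := Subtype.ext ha2.1
  set N : Subgroup C := (core a).subgroupOf C with hN
  -- properties of `v = π a`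
  have hv2 : q.π a' * q.π a' = 1 := by rw [← map_mul, ha'2, map_one]
  have hv1 : q.π a' ≠ 1 := by
    intro h1
    have h2 : (a' : G) ∈ core b := (q.map_eq_one_iff h.hX.core a').2 h1
    exact ha2.2 (eq_one_of_odd ha2.1 (core_odd b) h2)
  have hvz : q.π a' ≠ z₀ := by
    intro h1
    have h2 : q.π (a' * ⟨b, mem_self b⟩) = 1 := by
      rw [map_mul, h1, q.map_z, h.hX.ord]
    have h3 : a * b ∈ core b := (q.map_eq_one_iff h.hX.core (a' * ⟨b, mem_self b⟩)).2 h2
    have h4 : a * b * (a * b) = 1 := by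
      calc a * b * (a * b) = a * (b * a) * b := by group
        _ = a * a * (b * b) := by rw [← hab]; group
        _ = 1 := by rw [ha2.1, hb2.1, one_mul]
    have h5 := eq_one_of_odd h4 (core_odd b) h3
    apply hne
    rw [mul_eq_one_iff_eq_inv, inv_eq_of_mul_eq_one_left hb2.1] at h5
    exact h5
  have hbot := h.hX.bal (q.π a') hv2 hv1 hvz (N.map q.π) (by
    rintro _ ⟨x, hx, rfl⟩
    rw [mem_centralizer_singleton_iff, ← map_mul, ← map_mul]
    congr 1
    apply Subtype.ext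
    exact mem_centralizer_singleton_iff.1 (core_le a hx)) (by
    rw [Subgroup.le_normalizer_iff]
    rintro y hy _ ⟨x, hx, rfl⟩
    obtain ⟨c, hc, rfl⟩ := exists_lift_commute q.surj q.odd ha'2 (mem_centralizer_singleton_iff.1 hy)
    refine ⟨c * x * c⁻¹, ?_, by simp⟩
    have hc' : (c : G) ∈ centralizer ({a} : Set G) :=
      mem_centralizer_singleton_iff.2 (congrArg Subtype.val hc)
    exact (Subgroup.le_normalizer_iff.1 (centralizer_le_normalizer_core a)) _ hc' _ hx) (by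
    apply odd_card_map
    have h1 : (N.map C.subtype) ≤ core a := by
      rintro _ ⟨x, hx, rfl⟩; exact hx
    have h2 := odd_of_le h1 (core_odd a)
    rwa [Nat.card_congr (N.equivMapOfInjective _ C.subtype_injective).toEquiv.symm] at h2)
  rintro x ⟨hxa, hxC⟩
  have h6 : q.π ⟨x, hxC⟩ ∈ N.map q.π := ⟨⟨x, hxC⟩, hxa, rfl⟩
  rw [hbot, Subgroup.mem_bot] at h6
  exact (q.map_eq_one_iff h.hX.core ⟨x, hxC⟩).2 h6

/-- The signalizer functor theorem for `θ = core`. -/
theorem functor (h : MinCtx z₀ r G) {A : Subgroup G} (hA : IsElementaryAbelian 2 A) (hA3 : 2 ^ 3 ≤ Nat.card A) :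
    Odd (Nat.card (Y A)) ∧ ∀ a ∈ A, a ≠ 1 → Y A ⊓ centralizer ({a} : Set G) = core a := by
  have hinv : ∀ a ∈ A, a ≠ 1 → orderOf a = 2 := fun a ha ha1 => orderOf_two_iff.2 ⟨elem_sq hA a ha, ha1⟩
  obtain ⟨h1, h2⟩ := h.sf G A (elem_comm hA) hA.2 hA3 (fun a => core a) (fun a _ _ => core_le a)
    (fun a _ _ => not_two_dvd (core_odd a)) (fun a ha _ b hb x hx =>
      (Subgroup.le_normalizer_iff.1 (centralizer_le_normalizer_core a)) b
        (mem_centralizer_singleton_iff.2 (elem_comm hA b hb a ha)) x hx)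
    (fun a _ _ => h.ft _ (core_odd a))
    (fun a ha ha1 b hb hb1 => balance h (hinv a ha ha1) (hinv b hb hb1) (elem_comm hA a ha b hb))
  exact ⟨odd_of_not_two_dvd h1, h2⟩

theorem le_normalizer_Y {A : Subgroup G} (hA : IsElementaryAbelian 2 A) : A ≤ normalizer (Y A : Set G) := by
  intro b hb
  rw [mem_normalizer_iff_map_conj_eq]
  have h1 := Y_conj A b
  have h2 : A.map (MulAut.conj b).toMonoidHom = A := by
    ext x
    constructor
    · rintro ⟨y, hy, rfl⟩
      exact A.mul_mem (A.mul_mem hb hy) (A.inv_mem hb)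
    · intro hx
      refine ⟨x, hx, ?_⟩
      change b * x * b⁻¹ = x
      rw [elem_comm hA b hb x hx, mul_inv_cancel_right]
  rw [h2] at h1
  exact h1.symm

/-- `Y_A = Y_V` for a four-subgroup `V` of `A`. -/
theorem Y_eq_of_le (h : MinCtx z₀ r G) {A V : Subgroup G} (hA : IsElementaryAbelian 2 A) (hA3 : 2 ^ 3 ≤ Nat.card A)
    (hV : V ≤ A) (hV2 : 2 ^ 2 ≤ Nat.card V) : Y A = Y V := by
  apply le_antisymm _ (Y_mono hV)
  have : Fact (Nat.Prime 2) := ⟨Nat.prime_two⟩
  obtain ⟨h1, h2⟩ := functor h hA hA3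
  have h3 := Cfsg.Agent.SignalizersComponents.CoprimeGen.le_iSup_centralizer_ne_one (elem_mono hV hA) hV2
    (not_two_dvd h1) (hV.trans (le_normalizer_Y hA))
  refine h3.trans (iSup_le fun a => ?_)
  rw [h2 _ (hV a.2.1) a.2.2]
  exact core_le_Y a.2.1 a.2.2

/-- The image of an elementary abelian subgroup of `C(e)` containing `e`. -/
theorem map_elem {e : G} (q : Quo z₀ e) {E : Subgroup G} (hE : IsElementaryAbelian 2 E) (heE : e ∈ E) :
    IsElementaryAbelian 2 ((E.subgroupOf (centralizer ({e} : Set G))).map q.π) ∧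
      Nat.card ((E.subgroupOf (centralizer ({e} : Set G))).map q.π) = Nat.card E ∧
      z₀ ∈ (E.subgroupOf (centralizer ({e} : Set G))).map q.π := by
  set C := centralizer ({e} : Set G) with hC
  have hEC : E ≤ C := fun x hx => mem_centralizer_singleton_iff.2 (elem_comm hE x hx e heE)
  refine ⟨elem_mk ?_ ?_, ?_, ⟨⟨e, mem_self e⟩, heE, q.map_z⟩⟩
  · rintro _ ⟨x, hx, rfl⟩ _ ⟨y, hy, rfl⟩
    rw [← map_mul, ← map_mul]
    congr 1
    exact Subtype.ext (elem_comm hE _ hx _ hy)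
  · rintro _ ⟨x, hx, rfl⟩
    rw [← map_mul, ← map_one q.π]
    congr 1
    exact Subtype.ext (elem_sq hE _ hx)
  · rw [← Nat.card_congr (Subgroup.subgroupOfEquivOfLe hEC).toEquiv]
    refine Nat.card_congr (Equiv.symm (Equiv.ofBijective
      (fun x : E.subgroupOf C => (⟨q.π x, ⟨x, x.2, rfl⟩⟩ : (E.subgroupOf C).map q.π)) ⟨?_, ?_⟩))
    · intro x y hxy
      have h1 : q.π x = q.π y := congrArg Subtype.val hxy
      have h2 : q.π ((x : C) * (y : C)⁻¹) = 1 := by rw [map_mul, h1, map_inv, mul_inv_cancel]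
      have h3 : (x : C) * (y : C)⁻¹ = 1 := by
        have h4 : ((x : C) * (y : C)⁻¹) * ((x : C) * (y : C)⁻¹) = 1 := by
          apply Subtype.ext
          exact elem_sq hE _ (E.mul_mem x.2 (E.inv_mem y.2))
        exact eq_one_of_odd h4 q.odd h2
      exact Subtype.ext (mul_inv_eq_one.1 h3)
    · rintro ⟨_, ⟨x, hx, rfl⟩⟩
      exact ⟨⟨x, hx⟩, rfl⟩

/-- Every odd order subgroup normalised by `E` (elementary of order `2^r`) lies in `Y_E`. -/
theorem le_Y_of_inv (h : MinCtx z₀ r G) {E : Subgroup G} (hE : IsElementaryAbelian 2 E) (hcard : Nat.card E = 2 ^ r)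
    {D : Subgroup G} (hED : E ≤ normalizer (D : Set G)) (hD : Odd (Nat.card D)) : D ≤ Y E := by
  have : Fact (Nat.Prime 2) := ⟨Nat.prime_two⟩
  have hE2 : 2 ^ 2 ≤ Nat.card E := by
    rw [hcard]; exact Nat.pow_le_pow_right (by norm_num) (by have := h.hX.rank; omega)
  refine (Cfsg.Agent.SignalizersComponents.CoprimeGen.le_iSup_centralizer_ne_one hE hE2 (not_two_dvd hD) hED).trans
    (iSup_le ?_)
  rintro ⟨e, he, he1⟩
  refine le_trans ?_ (core_le_Y he he1)
  have heo : orderOf e = 2 := orderOf_two_iff.2 ⟨elem_sq hE e he, he1⟩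
  obtain ⟨q⟩ := h.quo e heo
  set C := centralizer ({e} : Set G) with hC
  have hEC : E ≤ C := fun x hx => mem_centralizer_singleton_iff.2 (elem_comm hE x hx e he)
  obtain ⟨h1, h2, h3⟩ := map_elem q hE he
  have hbot := h.hX.sig _ h1 (h2.trans hcard) h3 ((D.subgroupOf C).map q.π) (by
    rw [Subgroup.le_normalizer_iff]
    rintro _ ⟨a, ha, rfl⟩ _ ⟨x, hx, rfl⟩
    refine ⟨a * x * a⁻¹, ?_, by simp⟩
    exact (Subgroup.le_normalizer_iff.1 hED) _ ha _ hx) (by
    apply odd_card_map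
    have h1 : ((D.subgroupOf C).map C.subtype) ≤ D := by
      rintro _ ⟨x, hx, rfl⟩; exact hx
    have h2 := odd_of_le h1 hD
    rwa [Nat.card_congr ((D.subgroupOf C).equivMapOfInjective _ C.subtype_injective).toEquiv.symm] at h2)
  rintro x ⟨hxD, hxC⟩
  have h6 : q.π ⟨x, hxC⟩ ∈ (D.subgroupOf C).map q.π := ⟨⟨x, hxC⟩, hxD, rfl⟩
  rw [hbot, Subgroup.mem_bot] at h6
  exact (q.map_eq_one_iff h.hX.core ⟨x, hxC⟩).2 h6

/-! ### The subgroup `U_z` -/

/-- The elementary abelian subgroups of order `2^r` containing `z`. -/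
def IsE (r : ℕ) (z : G) (E : Subgroup G) : Prop := IsElementaryAbelian 2 E ∧ Nat.card E = 2 ^ r ∧ z ∈ E

/-- `U_z` -/
def U (r : ℕ) (z : G) : Subgroup G := ⨅ E : {E : Subgroup G // IsE r z E}, Y (E : Subgroup G)

theorem IsE.conj {z : G} {E : Subgroup G} (hE : IsE r z E) (g : G) :
    IsE r (g * z * g⁻¹) (E.map (MulAut.conj g).toMonoidHom) := by
  refine ⟨elem_mk ?_ ?_, ?_, ⟨z, hE.2.2, rfl⟩⟩
  · rintro _ ⟨x, hx, rfl⟩ _ ⟨y, hy, rfl⟩
    rw [← map_mul, ← map_mul, elem_comm hE.1 x hx y hy]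
  · rintro _ ⟨x, hx, rfl⟩
    rw [← map_mul, elem_sq hE.1 x hx, map_one]
  · rw [← hE.2.1]
    exact Subgroup.card_map_of_injective (MulAut.conj g).injective

theorem U_le {z : G} {E : Subgroup G} (hE : IsE r z E) : U r z ≤ Y E :=
  iInf_le (fun E : {E : Subgroup G // IsE r z E} => Y (E : Subgroup G)) ⟨E, hE⟩

theorem U_conj_le (z g : G) : (U r z).map (MulAut.conj g).toMonoidHom ≤ U r (g * z * g⁻¹) := by
  refine le_iInf ?_
  rintro ⟨E, hE⟩
  have h1 := hE.conj g⁻¹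
  have e : g⁻¹ * (g * z * g⁻¹) * g⁻¹⁻¹ = z := by group
  rw [e] at h1
  have h2 := Subgroup.map_mono (f := (MulAut.conj g).toMonoidHom) (U_le h1)
  rw [← Y_conj] at h2
  have h3 : (E.map (MulAut.conj g⁻¹).toMonoidHom).map (MulAut.conj g).toMonoidHom = E := by
    rw [Subgroup.map_map]
    convert Subgroup.map_id E
    ext x
    simp [mul_assoc]
  rwa [h3] at h2

theorem U_conj (z g : G) : U r (g * z * g⁻¹) = (U r z).map (MulAut.conj g).toMonoidHom := by
  apply le_antisymm _ (U_conj_le z g)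
  have h := U_conj_le (r := r) (g * z * g⁻¹) g⁻¹
  have e : g⁻¹ * (g * z * g⁻¹) * g⁻¹⁻¹ = z := by group
  rw [e] at h
  intro x hx
  refine ⟨g⁻¹ * x * g, ?_, ?_⟩
  · have e2 : (MulAut.conj g⁻¹).toMonoidHom x = g⁻¹ * x * g := by simp
    rw [← e2]
    exact h ⟨x, hx, rfl⟩
  · simp only [MulEquiv.coe_toMonoidHom, MulAut.conj_apply]
    group

theorem centralizer_le_normalizer_U (z : G) : centralizer ({z} : Set G) ≤ normalizer (U r z : Set G) := by
  intro g hg
  rw [mem_normalizer_iff_map_conj_eq]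
  have h := U_conj (r := r) z g
  have e : g * z * g⁻¹ = z := by
    rw [mem_centralizer_singleton_iff.1 hg, mul_inv_cancel_right]
  rw [e] at h
  exact h.symm

theorem core_le_U {z : G} (hz1 : z ≠ 1) : core z ≤ U r z :=
  le_iInf fun E => core_le_Y E.2.2.2 hz1

theorem eight_le (h : MinCtx z₀ r G) {z : G} {E : Subgroup G} (hE : IsE r z E) : 2 ^ 3 ≤ Nat.card E := by
  rw [hE.2.1]; exact Nat.pow_le_pow_right (by norm_num) h.hX.rank

theorem isPGroup_of_elem {H : Type*} [Group H] {E : Subgroup H} (hE : IsElementaryAbelian 2 E) : IsPGroup 2 E := by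
  intro g
  refine ⟨1, ?_⟩
  apply Subtype.ext
  change (g : H) ^ 2 ^ 1 = 1
  rw [pow_one]
  exact hE.2 g g.2

/-- Existence of elementary abelian subgroups of order `2^r` through `z` covering a given one of `X`. -/
theorem exists_isE_map (h : MinCtx z₀ r G) {z : G} (hz : orderOf z = 2) (q : Quo z₀ z) {E₀ : Subgroup X}
    (hE₀ : IsElementaryAbelian 2 E₀) (hz₀ : z₀ ∈ E₀) {K : Subgroup (centralizer ({z} : Set G))}
    (hK : K.map q.π = E₀) :
    ∃ E : Subgroup (centralizer ({z} : Set G)), E ≤ K ∧ E.map q.π = E₀ ∧ IsElementaryAbelian 2 E ∧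
      Nat.card E = Nat.card E₀ ∧ ⟨z, mem_self z⟩ ∈ E := by
  have : Fact (Nat.Prime 2) := ⟨Nat.prime_two⟩
  -- work inside `K`
  let ρ : K →* E₀ := (q.π.comp K.subtype).codRestrict E₀ (fun x => hK ▸ ⟨x, x.2, rfl⟩)
  have hρ : Function.Surjective ρ := by
    rintro ⟨y, hy⟩
    rw [← hK] at hy
    obtain ⟨c, hc, rfl⟩ := hy
    exact ⟨⟨c, hc⟩, rfl⟩
  have htop : IsPGroup 2 (⊤ : Subgroup E₀) := (isPGroup_of_elem hE₀).to_subgroup ⊤
  obtain ⟨S, hS, hSmap⟩ := exists_lift_two_subgroup hρ htop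
  set E := S.map K.subtype with hEdef
  have hEp : IsPGroup 2 E := hS.map _
  have hEmap : E.map q.π = E₀ := by
    rw [hEdef, Subgroup.map_map]
    have h6 : q.π.comp K.subtype = E₀.subtype.comp ρ := rfl
    rw [h6, ← Subgroup.map_map, hSmap, ← MonoidHom.range_eq_map, Subgroup.range_subtype]
  -- `π` is injective on `E`
  have hinj : ∀ x ∈ E, q.π x = 1 → x = 1 := by
    intro x hx h1
    have h2 : IsPGroup 2 (E ⊓ q.π.ker : Subgroup _) := hEp.to_le inf_le_left
    have h3 : Odd (Nat.card (E ⊓ q.π.ker : Subgroup _)) := odd_of_le inf_le_right q.odd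
    obtain ⟨k, hk⟩ := IsPGroup.iff_card.1 h2
    have h4 : Nat.card (E ⊓ q.π.ker : Subgroup _) = 1 := by
      rcases Nat.eq_zero_or_pos k with h5 | h5
      · rw [hk, h5, pow_zero]
      · exact absurd (hk ▸ dvd_pow_self 2 h5.ne') (not_two_dvd h3)
    have h5 := Subgroup.eq_bot_of_card_eq _ h4
    have h6 : x ∈ E ⊓ q.π.ker := ⟨hx, h1⟩
    rwa [h5, Subgroup.mem_bot] at h6
  have hinj' : ∀ x ∈ E, ∀ y ∈ E, q.π x = q.π y → x = y := by
    intro x hx y hy hxy
    have := hinj (x * y⁻¹) (E.mul_mem hx (E.inv_mem hy)) (by rw [map_mul, hxy, map_inv, mul_inv_cancel])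
    exact mul_inv_eq_one.1 this
  have hsq : ∀ x ∈ E, x * x = 1 := by
    intro x hx
    apply hinj' _ (E.mul_mem hx hx) _ (one_mem _)
    rw [map_mul, map_one]
    exact elem_sq hE₀ _ (hEmap ▸ ⟨x, hx, rfl⟩)
  refine ⟨E, Subgroup.map_subtype_le _, hEmap, elem_mk ?_ hsq, ?_, ?_⟩
  · intro x hx y hy
    apply hinj' _ (E.mul_mem hx hy) _ (E.mul_mem hy hx)
    rw [map_mul, map_mul]
    exact elem_comm hE₀ _ (hEmap ▸ ⟨x, hx, rfl⟩) _ (hEmap ▸ ⟨y, hy, rfl⟩)
  · rw [← hEmap]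
    refine Nat.card_congr (Equiv.ofBijective
      (fun x : E => (⟨q.π x, ⟨x, x.2, rfl⟩⟩ : E.map q.π)) ⟨?_, ?_⟩)
    · intro x y hxy
      exact Subtype.ext (hinj' x x.2 y y.2 (congrArg Subtype.val hxy))
    · rintro ⟨_, ⟨x, hx, rfl⟩⟩
      exact ⟨⟨x, hx⟩, rfl⟩
  · have h1 : z₀ ∈ E.map q.π := hEmap ▸ hz₀
    obtain ⟨s, hs, hsz⟩ := h1
    have hcomm : s * ⟨z, mem_self z⟩ = ⟨z, mem_self z⟩ * s :=
      Subtype.ext (mem_centralizer_singleton_iff.1 s.2)
    have hzz : (⟨z, mem_self z⟩ : centralizer ({z} : Set G)) * ⟨z, mem_self z⟩ = 1 :=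
      Subtype.ext (orderOf_two_iff.1 hz).1
    have h2 : s * ⟨z, mem_self z⟩ ∈ q.π.ker := by
      rw [MonoidHom.mem_ker, map_mul, hsz, q.map_z, h.hX.ord]
    have h3 := eq_one_of_odd (x := s * ⟨z, mem_self z⟩) (by
      calc s * ⟨z, mem_self z⟩ * (s * ⟨z, mem_self z⟩) = s * (⟨z, mem_self z⟩ * s) * ⟨z, mem_self z⟩ := by group
        _ = s * s * (⟨z, mem_self z⟩ * ⟨z, mem_self z⟩) := by rw [← hcomm]; group
        _ = 1 := by rw [hsq s hs, hzz, one_mul]) q.odd h2
    rw [mul_eq_one_iff_eq_inv, inv_eq_of_mul_eq_one_left hzz] at h3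
    rwa [← h3]

theorem isE_map {z : G} {E : Subgroup (centralizer ({z} : Set G))} (h1 : IsElementaryAbelian 2 E)
    (h2 : Nat.card E = 2 ^ r) (h3 : ⟨z, mem_self z⟩ ∈ E) :
    IsE r z (E.map (centralizer ({z} : Set G)).subtype) := by
  refine ⟨elem_mk ?_ ?_, ?_, ⟨_, h3, rfl⟩⟩
  · rintro _ ⟨x, hx, rfl⟩ _ ⟨y, hy, rfl⟩
    rw [← map_mul, ← map_mul, elem_comm h1 x hx y hy]
  · rintro _ ⟨x, hx, rfl⟩
    rw [← map_mul, elem_sq h1 x hx, map_one]
  · rw [Subgroup.card_map_of_injective (Subgroup.subtype_injective _), h2]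

theorem exists_isE (h : MinCtx z₀ r G) {z : G} (hz : orderOf z = 2) : ∃ E : Subgroup G, IsE r z E := by
  obtain ⟨q⟩ := h.quo z hz
  obtain ⟨E₀, hE₀, hcard, hz₀⟩ := h.hX.exists_elem
  obtain ⟨E, -, -, h1, h2, h3⟩ := exists_isE_map h hz q hE₀ hz₀ (K := E₀.comap q.π)
    (Subgroup.map_comap_eq_self_of_surjective q.surj E₀)
  exact ⟨_, isE_map h1 (h2.trans hcard) h3⟩

theorem U_odd (h : MinCtx z₀ r G) {z : G} (hz : orderOf z = 2) : Odd (Nat.card (U r z)) := by
  obtain ⟨E, hE⟩ := exists_isE h hz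
  exact odd_of_le (U_le hE) (functor h hE.1 (eight_le h hE)).1

/-- (6a) A proper subgroup containing `z` and covering `X` lies in `N_G(U_z)`; moreover commutators with `z` are in
`U_z`. -/
theorem cover_aux (h : MinCtx z₀ r G) {z : G} (hz : orderOf z = 2) (q : Quo z₀ z) {N : Subgroup G} (hN : N ≠ ⊤)
    (hzN : z ∈ N) (hcov : ∀ y : X, ∃ c : centralizer ({z} : Set G), (c : G) ∈ N ∧ q.π c = y) :
    ∃ R : Subgroup G, R ≤ U r z ∧ N ≤ normalizer (R : Set G) ∧ ∀ g ∈ N, ∃ x ∈ R, ∃ c ∈ centralizer ({z} : Set G),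
      g = x * c := by
  obtain ⟨R, hRN, hNR, hodd, hcomm⟩ := exists_zstar_subgroup hzN (h.sub z hz q N hN hzN hcov)
  have hz2 := orderOf_two_iff.1 hz
  refine ⟨R, le_iInf ?_, hNR, ?_⟩
  · rintro ⟨E, hE⟩
    -- conjugate `E` into `N` by an element of `core z`
    set C := centralizer ({z} : Set G) with hC
    have hEC : E ≤ C := fun x hx => mem_centralizer_singleton_iff.2 (elem_comm hE.1 x hx z hE.2.2)
    obtain ⟨h1, h2, h3⟩ := map_elem q hE.1 hE.2.2
    set E₀ := (E.subgroupOf C).map q.π with hE₀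
    set K : Subgroup C := (N.subgroupOf C) ⊓ E₀.comap q.π with hK
    have hKmap : K.map q.π = E₀ := by
      apply le_antisymm
      · rintro _ ⟨x, hx, rfl⟩
        exact hx.2
      · intro y hy
        obtain ⟨c, hc, rfl⟩ := hcov y
        exact ⟨c, ⟨hc, hy⟩, rfl⟩
    obtain ⟨E', hE'K, hE'map, hE'1, hE'2, hE'3⟩ := exists_isE_map h hz q h1 h3 hKmap
    have hF := isE_map hE'1 ((hE'2.trans h2).trans hE.2.1) hE'3
    set F := E'.map C.subtype with hFdef
    have hFN : F ≤ N := by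
      rintro _ ⟨x, hx, rfl⟩
      exact (hE'K hx).1
    have h4 : R ≤ Y F := le_Y_of_inv h hF.1 hF.2.1 (hFN.trans hNR) hodd
    -- `E` normalises `Y F`
    have h5 : E ≤ normalizer (Y F : Set G) := by
      intro e he
      have h6 : q.π ⟨e, hEC he⟩ ∈ E'.map q.π := by rw [hE'map]; exact ⟨⟨e, hEC he⟩, he, rfl⟩
      obtain ⟨e', he', hee'⟩ := h6
      have h7 : ((e'⁻¹ * ⟨e, hEC he⟩ : C) : G) ∈ core z := by
        rw [q.map_eq_one_iff h.hX.core, map_mul, map_inv, hee', inv_mul_cancel]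
      have h8 : ((e'⁻¹ * ⟨e, hEC he⟩ : C) : G) ∈ normalizer (Y F : Set G) :=
        Subgroup.le_normalizer (core_le_Y hF.2.2 hz2.2 h7)
      have h9 := (normalizer (Y F : Set G)).mul_mem (le_normalizer_Y hF.1 ⟨e', he', rfl⟩) h8
      have e0 : (C.subtype e') * ((e'⁻¹ * ⟨e, hEC he⟩ : C) : G) = e := by
        change (e' : G) * ((e' : G)⁻¹ * e) = e
        group
      rwa [e0] at h9
    exact h4.trans (le_Y_of_inv h hE.1 hE.2.1 h5 (functor h hF.1 (eight_le h hF)).1)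
  · intro g hg
    have h1 : z * (g * z * g⁻¹) ∈ R := by
      have h2 := hcomm g hg
      have e : z * g * z⁻¹ * g⁻¹ = z * (g * z * g⁻¹) := by
        rw [inv_eq_of_mul_eq_one_left hz2.1]; group
      rwa [e] at h2
    obtain ⟨k, hk, hk2⟩ := exists_conj_of_odd (x := z) (y := g * z * g⁻¹) hz2.1 (by
      calc g * z * g⁻¹ * (g * z * g⁻¹) = g * (z * z) * g⁻¹ := by group
        _ = 1 := by rw [hz2.1]; group) hodd h1
    refine ⟨k⁻¹, R.inv_mem hk, k * g, ?_, by group⟩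
    rw [mem_centralizer_singleton_iff]
    have h3 : k * g * z * (k * g)⁻¹ = z := by
      calc k * g * z * (k * g)⁻¹ = k * (g * z * g⁻¹) * k⁻¹ := by group
        _ = z := hk2
    exact mul_inv_eq_iff_eq_mul.1 h3

theorem cover_le (h : MinCtx z₀ r G) {z : G} (hz : orderOf z = 2) (q : Quo z₀ z) {N : Subgroup G} (hN : N ≠ ⊤)
    (hzN : z ∈ N) (hcov : ∀ y : X, ∃ c : centralizer ({z} : Set G), (c : G) ∈ N ∧ q.π c = y) :
    N ≤ normalizer (U r z : Set G) := by
  obtain ⟨R, hRU, -, hR⟩ := cover_aux h hz q hN hzN hcov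
  intro g hg
  obtain ⟨x, hx, c, hc, rfl⟩ := hR g hg
  exact (normalizer (U r z : Set G)).mul_mem (Subgroup.le_normalizer (hRU hx)) (centralizer_le_normalizer_U z hc)

theorem normalizer_ne_top (h : MinCtx z₀ r G) {T : Subgroup G} (hT : Odd (Nat.card T)) (hT1 : T ≠ ⊥) :
    normalizer (T : Set G) ≠ ⊤ := fun h1 =>
  hT1 (h.hO T (Subgroup.normalizer_eq_top_iff.1 h1) hT)

theorem bar (h : MinCtx z₀ r G) {z : G} (hz : orderOf z = 2) {T : Subgroup G} (hTU : T ≤ U r z) (hT1 : T ≠ ⊥)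
    (hT : normalizer (U r z : Set G) ≤ normalizer (T : Set G)) :
    normalizer (T : Set G) ≤ normalizer (U r z : Set G) := by
  obtain ⟨q⟩ := h.quo z hz
  have hC := (centralizer_le_normalizer_U (r := r) z).trans hT
  refine cover_le h hz q (normalizer_ne_top h (odd_of_le hTU (U_odd h hz)) hT1) (hC (mem_self z)) ?_
  intro y
  obtain ⟨c, rfl⟩ := q.surj y
  exact ⟨c, hC c.2, rfl⟩

/-- the form of `cover_aux` for `N = N_G(U_z)` -/
theorem normalizer_aux (h : MinCtx z₀ r G) {z : G} (hz : orderOf z = 2) (hne : core z ≠ ⊥) :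
    ∃ R : Subgroup G, R ≤ U r z ∧ normalizer (U r z : Set G) ≤ normalizer (R : Set G) ∧
      ∀ g ∈ normalizer (U r z : Set G), ∃ x ∈ R, ∃ c ∈ centralizer ({z} : Set G), g = x * c := by
  obtain ⟨q⟩ := h.quo z hz
  have hU1 : U r z ≠ ⊥ := fun hb => hne (le_bot_iff.1 (hb ▸ core_le_U (orderOf_two_iff.1 hz).2))
  have hC := centralizer_le_normalizer_U (r := r) z
  refine cover_aux h hz q (normalizer_ne_top h (U_odd h hz) hU1) (hC (mem_self z)) ?_
  intro y
  obtain ⟨c, rfl⟩ := q.surj y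
  exact ⟨c, hC c.2, rfl⟩

theorem normalizer_inf_Y (h : MinCtx z₀ r G) {z : G} (hz : orderOf z = 2) (hne : core z ≠ ⊥) {E : Subgroup G}
    (hE : IsE r z E) : normalizer (U r z : Set G) ⊓ Y E = U r z := by
  apply le_antisymm _ (le_inf Subgroup.le_normalizer (U_le hE))
  obtain ⟨R, hRU, -, hR⟩ := normalizer_aux h hz hne
  rintro g ⟨hg, hgY⟩
  obtain ⟨x, hx, c, hc, rfl⟩ := hR g hg
  have hxU := hRU hx
  have hcY : c ∈ Y E := by
    have := (Y E).mul_mem ((Y E).inv_mem (U_le hE hxU)) hgY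
    rwa [inv_mul_cancel_left] at this
  have hz1 := (orderOf_two_iff.1 hz).2
  have h2 : c ∈ core z := by
    rw [← (functor h hE.1 (eight_le h hE)).2 z hE.2.2 hz1]
    exact ⟨hcY, hc⟩
  exact (U r z).mul_mem hxU (core_le_U hz1 h2)

theorem not_normalizer_le (h : MinCtx z₀ r G) {z : G} (hz : orderOf z = 2) (hne : core z ≠ ⊥) {E : Subgroup G}
    (hE : IsE r z E) : ¬ normalizer (Y E : Set G) ≤ normalizer (U r z : Set G) := by
  intro hle
  have : Fact (Nat.Prime 2) := ⟨Nat.prime_two⟩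
  have hz2 := orderOf_two_iff.1 hz
  have hE8 := eight_le h hE
  have hcz : Nat.card (zpowers z) = 2 := by rw [Nat.card_zpowers, hz]
  obtain ⟨e, heE, hez⟩ : ∃ e ∈ E, e ∉ zpowers z := by
    by_contra hcon
    push Not at hcon
    have := Subgroup.card_le_of_le (H := E) (K := zpowers z) hcon
    rw [hcz] at this
    omega
  have he1 : e ≠ 1 := fun h1 => hez (h1 ▸ one_mem _)
  have hez' : e ≠ z := fun h1 => hez (h1 ▸ mem_zpowers z)
  have he2 := elem_sq hE.1 e heE
  have heo : orderOf e = 2 := orderOf_two_iff.2 ⟨he2, he1⟩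
  have hcomm : z * e = e * z := elem_comm hE.1 z hE.2.2 e heE
  obtain ⟨q⟩ := h.quo e heo
  have hzC : z ∈ centralizer ({e} : Set G) := mem_centralizer_singleton_iff.2 hcomm
  set a : centralizer ({e} : Set G) := ⟨z, hzC⟩ with ha
  set e' : centralizer ({e} : Set G) := ⟨e, mem_self e⟩ with he'
  have ha2 : a * a = 1 := Subtype.ext hz2.1
  have hb2 : a * e' * (a * e') = 1 := by
    apply Subtype.ext
    change z * e * (z * e) = 1
    calc z * e * (z * e) = z * e * (e * z) := by rw [hcomm]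
      _ = z * (e * e) * z := by group
      _ = 1 := by rw [he2, mul_one, hz2.1]
  have hinj : ∀ x : centralizer ({e} : Set G), x * x = 1 → q.π x = 1 → x = 1 := fun x hx hx1 =>
    eq_one_of_odd hx q.odd hx1
  have hv1 : q.π a ≠ 1 := fun h1 => hz2.2 (congrArg Subtype.val (hinj a ha2 h1))
  have hz₀2 := h.hX.ord
  have hvz : q.π a ≠ z₀ := by
    intro h1
    have h2 := hinj (a * e') hb2 (by rw [map_mul, h1, q.map_z, hz₀2])
    have h3 : z * e = 1 := congrArg Subtype.val h2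
    rw [mul_eq_one_iff_eq_inv, inv_eq_of_mul_eq_one_left he2] at h3
    exact hez' h3.symm
  have hae : q.π a * z₀ = q.π (a * e') := by rw [map_mul, q.map_z]
  obtain ⟨g, hg⟩ := h.hX.fus (q.π a) (q.π a * z₀) (by rw [← map_mul, ha2, map_one]) hv1 hvz (by
      rw [hae, ← map_mul, hb2, map_one]) (by
      intro h1
      rw [mul_eq_one_iff_eq_inv, inv_eq_of_mul_eq_one_left hz₀2] at h1
      exact hvz h1) (fun h1 => hv1 (mul_eq_right.1 h1))
  obtain ⟨c, hc, -⟩ := exists_lift_conj q.surj q.odd ha2 hb2 (y := g) (by rw [hg, map_mul, q.map_z])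
  have hc' : (c : G) * z * (c : G)⁻¹ = z * e := congrArg Subtype.val hc
  have hce : (c : G) * e * (c : G)⁻¹ = e := by
    rw [mem_centralizer_singleton_iff.1 c.2, mul_inv_cancel_right]
  -- the four-group
  set V := Subgroup.closure ({z, e} : Set G) with hV
  have hzV : z ∈ V := Subgroup.subset_closure (by simp)
  have heV : e ∈ V := Subgroup.subset_closure (by simp)
  have hVE : V ≤ E := by
    rw [hV, Subgroup.closure_le]
    intro x hx
    rcases hx with hx | hx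
    · rw [hx]; exact hE.2.2
    · rw [Set.mem_singleton_iff.1 hx]; exact heE
  have hV4 : 2 ^ 2 ≤ Nat.card V := by
    have hzle : zpowers z ≤ V := by rw [zpowers_le]; exact hzV
    have h1 : Nat.card (zpowers z) ∣ Nat.card V := Subgroup.card_dvd_of_le hzle
    rw [hcz] at h1
    obtain ⟨k, hk⟩ := h1
    have h2 : Nat.card V ≠ 2 := by
      intro h2
      have h3 : zpowers z = V := Subgroup.eq_of_le_of_card_ge hzle (by rw [hcz, h2])
      exact hez (h3 ▸ heV)
    have h3 : Nat.card V ≠ 0 := Nat.card_pos.ne'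
    have : k ≠ 0 := by rintro rfl; simp at hk; omega
    have : k ≠ 1 := by rintro rfl; omega
    omega
  have hVc : V.map (MulAut.conj (c : G)).toMonoidHom = V := by
    rw [hV, MonoidHom.map_closure, Set.image_pair]
    change Subgroup.closure {(c : G) * z * (c : G)⁻¹, (c : G) * e * (c : G)⁻¹} = _
    rw [hc', hce]
    apply le_antisymm
    · rw [Subgroup.closure_le]
      intro x hx
      rcases hx with hx | hx
      · rw [hx]; exact V.mul_mem hzV heV
      · rw [Set.mem_singleton_iff.1 hx]; exact heV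
    · rw [Subgroup.closure_le]
      intro x hx
      rcases hx with hx | hx
      · have h1 : z * e * e ∈ Subgroup.closure ({z * e, e} : Set G) :=
          (Subgroup.closure _).mul_mem (Subgroup.subset_closure (by simp)) (Subgroup.subset_closure (by simp))
        rw [mul_assoc, he2, mul_one] at h1
        rw [hx]; exact h1
      · rw [Set.mem_singleton_iff.1 hx]; exact Subgroup.subset_closure (by simp)
  have hcN : (c : G) ∈ normalizer (Y E : Set G) := by
    rw [Y_eq_of_le h hE.1 hE8 hVE hV4, mem_normalizer_iff_map_conj_eq]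
    have h1 := Y_conj V (c : G)
    rw [hVc] at h1
    exact h1.symm
  obtain ⟨R, hRU, hRn, hR⟩ := normalizer_aux h hz hne
  obtain ⟨x, hx, d, hd, hxd⟩ := hR _ (hle hcN)
  have hd' : d * z * d⁻¹ = z := by
    rw [mem_centralizer_singleton_iff.1 hd, mul_inv_cancel_right]
  have h1 : z * e = x * z * x⁻¹ := by
    rw [← hc', hxd]
    calc x * d * z * (x * d)⁻¹ = x * (d * z * d⁻¹) * x⁻¹ := by group
      _ = x * z * x⁻¹ := by rw [hd']
  have h2 : e ∈ R := by
    have h3 : e = z * x * z⁻¹ * x⁻¹ := by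
      calc e = z * (z * e) := by rw [← mul_assoc, hz2.1, one_mul]
        _ = z * (x * z * x⁻¹) := by rw [h1]
        _ = z * x * z⁻¹ * x⁻¹ := by rw [inv_eq_of_mul_eq_one_left hz2.1]; group
    rw [h3]
    refine R.mul_mem ?_ (R.inv_mem hx)
    exact (Subgroup.le_normalizer_iff.1 hRn) z (centralizer_le_normalizer_U z (mem_self z)) x hx
  exact he1 (eq_one_of_odd he2 (U_odd h hz) (hRU h2))

theorem core_eq_bot (h : MinCtx z₀ r G) {z : G} (hz : orderOf z = 2) {E : Subgroup G}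
    (hE : IsE r z E) {p : ℕ} (hp : p.Prime) (hU : piCoreOf {p} (U r z) = ⊥) : piCoreOf {p} (Y E) = ⊥ := by
  have : Fact (Nat.Prime 2) := ⟨Nat.prime_two⟩
  have hE8 := eight_le h hE
  obtain ⟨hYodd, hYc⟩ := functor h hE.1 hE8
  set R := piCoreOf {p} (Y E) with hR
  have hRY : R ≤ Y E := piCoreOf_le _ _
  have hYR : Y E ≤ normalizer (R : Set G) := le_normalizer_piCoreOf _ _
  have hER : E ≤ normalizer (R : Set G) := (le_normalizer_Y hE.1).trans (normalizer_le_normalizer_piCoreOf _ _)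
  rw [eq_bot_iff]
  refine (Cfsg.Agent.SignalizersComponents.CoprimeGen.le_iSup_centralizer_ne_one hE.1 (by omega)
    (not_two_dvd (odd_of_le hRY hYodd)) hER).trans (iSup_le ?_)
  rintro ⟨e, he, he1⟩
  have heo : orderOf e = 2 := orderOf_two_iff.2 ⟨elem_sq hE.1 e he, he1⟩
  obtain ⟨g, hg⟩ := h.conj z e hz heo
  have hEe : IsE r e E := ⟨hE.1, hE.2.1, he⟩
  have h1 : R ⊓ centralizer ({e} : Set G) ≤ U r e := by
    refine le_trans ?_ (core_le_U he1)
    rw [← hYc e he he1]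
    exact inf_le_inf_right _ hRY
  have h2 : R ⊓ U r e ≤ piCoreOf {p} (U r e) := by
    refine le_core_of_isPGroup hp inf_le_right ?_ ((isPGroup_piCoreOf hp _).to_le inf_le_left)
    rw [Subgroup.le_normalizer_iff]
    intro a ha x hx
    exact ⟨(Subgroup.le_normalizer_iff.1 hYR) a (U_le hEe ha) x hx.1,
      (U r e).mul_mem ((U r e).mul_mem ha hx.2) ((U r e).inv_mem ha)⟩
  have h3 : piCoreOf {p} (U r e) = ⊥ := by
    rw [← hg, U_conj, Cfsg.Agent.SignalizersComponents.LocalGlobal.piCoreOf_map_injective, hU, Subgroup.map_bot]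
    exact (MulAut.conj g).injective
  exact (le_inf inf_le_left h1).trans (h2.trans h3.le)

/-- The contradiction: in a minimal situation the core is trivial. -/
theorem core_eq_bot_of_minCtx (h : MinCtx z₀ r G) {z : G} (hz : orderOf z = 2) : core z = ⊥ := by
  by_contra hne
  obtain ⟨E, hE⟩ := exists_isE h hz
  have hodd := (functor h hE.1 (eight_le h hE)).1
  have hU1 : U r z ≠ ⊥ := fun hb => hne (le_bot_iff.1 (hb ▸ core_le_U (orderOf_two_iff.1 hz).2))
  exact Cfsg.Agent.NineCore.BenderPair.false_of_pair hodd (h.ft _ hodd) (U_le hE) hU1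
    (fun T hT hT1 hTn => bar h hz hT hT1 hTn) (normalizer_inf_Y h hz hne hE)
    (fun p hp hp1 => core_eq_bot h hz hE hp hp1) (not_normalizer_le h hz hne hE)

end Cfsg.Agent.NineCore.NoTarget
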