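import Cfsg.Agent.SporRec.TwoAnEleven
import Cfsg.Agent.NineCore.NoTarget

/-!
# `2.A₉` satisfies `CoreHyp`
-/

set_option autoImplicit false
set_option linter.unusedSectionVars false

namespace Cfsg.Agent.NineCore.TwoNine

open Subgroup Equiv Cfsg
open Cfsg.Agent.SporRec.TwoAn Cfsg.Agent.SporRec.TwoAnEleven
open Cfsg.Agent.NineCore.Proj Cfsg.Agent.NineCore.NoTarget

universe v

variable {α : Type*} [Fintype α] [DecidableEq α] {C : Type v} [Group C] (K : Cover α C)

/-- An element of odd order whose image has order dividing a power of two is trivial. -/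
theorem eq_one_of_pow {D : Subgroup C} [Finite D] (hD : Odd (Nat.card D)) {d : C} (hd : d ∈ D) {k : ℕ}
    (h : d ^ 2 ^ k = 1) : d = 1 := by
  have h1 : orderOf (⟨d, hd⟩ : D) ∣ Nat.card D := orderOf_dvd_natCard _
  have h2 : orderOf (⟨d, hd⟩ : D) ∣ 2 ^ k := orderOf_dvd_of_pow_eq_one (Subtype.ext h)
  have h3 : (2 ^ k).Coprime (Nat.card D) := Nat.Coprime.pow_left k (Nat.coprime_two_left.2 hD)
  have h4 : orderOf (⟨d, hd⟩ : D) = 1 := Nat.eq_one_of_dvd_coprimes h3 h2 h1
  exact congrArg Subtype.val (orderOf_eq_one_iff.1 h4)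

theorem eq_one_of_map_pow {D : Subgroup C} [Finite D] (hD : Odd (Nat.card D)) {d : C} (hd : d ∈ D) {k : ℕ}
    (h : K.π d ^ 2 ^ k = 1) : d = 1 := by
  apply eq_one_of_pow hD hd (k := k + 1)
  rw [← map_pow] at h
  rw [pow_succ, pow_mul]
  rcases (K.ker _).1 h with h1 | h1
  · rw [h1, one_pow]
  · rw [h1, K.z_pow_two]

theorem sq_apply {σ : Perm α} (hσ : σ * σ = 1) (y : α) : σ (σ y) = y := by
  have := congrArg (fun f : Perm α => f y) hσ
  simpa using this

/-- Data: two commuting involutions of `Perm α`, `|α| = 9`, each of the three non-trivial elements of the four-group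
moving 8 points. -/
structure Four (σ τ : Perm α) (p : α) : Prop where
  hσ : ∀ x, σ (σ x) = x
  hτ : ∀ x, τ (τ x) = x
  hc : ∀ x, σ (τ x) = τ (σ x)
  s1 : ∀ x, σ x = x ↔ x = p
  s2 : ∀ x, τ x = x ↔ x = p
  s3 : ∀ x, σ (τ x) = x ↔ x = p

theorem exists_unique_fixed (hα : Fintype.card α = 9) {σ : Perm α} (hs : σ.support.card = 8) :
    ∃ p, ∀ x, σ x = x ↔ x = p := by
  have h : σ.supportᶜ.card = 1 := by rw [Finset.card_compl, hs, hα]
  obtain ⟨p, hp⟩ := Finset.card_eq_one.1 h
  refine ⟨p, fun x => ?_⟩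
  rw [← Perm.notMem_support, ← Finset.mem_compl, hp, Finset.mem_singleton]

theorem exists_four (hα : Fintype.card α = 9) {σ τ : Perm α} (hσ : σ * σ = 1) (hτ : τ * τ = 1)
    (hστ : σ * τ = τ * σ) (hs : σ.support.card = 8) (ht : τ.support.card = 8) (hst : (σ * τ).support.card = 8) :
    ∃ p, Four σ τ p := by
  obtain ⟨p, hp⟩ := exists_unique_fixed hα hs
  obtain ⟨p₂, hp₂⟩ := exists_unique_fixed hα ht
  obtain ⟨p₃, hp₃⟩ := exists_unique_fixed hα hst
  have hc : ∀ x, σ (τ x) = τ (σ x) := fun x => by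
    have := congrArg (fun f : Perm α => f x) hστ
    simpa using this
  have e2 : p = p₂ := by
    rw [← hp₂, ← hp, hc, (hp p).2 rfl]
  have e3 : p = p₃ := by
    rw [← hp₃, Perm.mul_apply, (hp₂ p).2 e2, (hp p).2 rfl]
  subst e2
  subst e3
  exact ⟨p, sq_apply hσ, sq_apply hτ, hc, hp, hp₂, fun x => by rw [← hp₃, Perm.mul_apply]⟩

/-- The orbit of `x`. -/
def orb (σ τ : Perm α) (x : α) : Finset α := {x, σ x, τ x, σ (τ x)}

theorem mem_orb {σ τ : Perm α} {x y : α} : y ∈ orb σ τ x ↔ y = x ∨ y = σ x ∨ y = τ x ∨ y = σ (τ x) := by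
  simp [orb]

theorem Four.card_orb {σ τ : Perm α} {p : α} (h : Four σ τ p) {x : α} (hx : x ≠ p) : (orb σ τ x).card = 4 := by
  have a1 : x ≠ σ x := fun e => hx ((h.s1 x).1 e.symm)
  have a2 : x ≠ τ x := fun e => hx ((h.s2 x).1 e.symm)
  have a3 : x ≠ σ (τ x) := fun e => hx ((h.s3 x).1 e.symm)
  have a4 : σ x ≠ τ x := fun e => hx ((h.s3 x).1 (by rw [← e, h.hσ]))
  have a5 : σ x ≠ σ (τ x) := fun e => a2 (σ.injective e)
  have a6 : τ x ≠ σ (τ x) := fun e => a1 (τ.injective (by rw [← h.hc]; exact e))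
  rw [orb, Finset.card_insert_of_notMem, Finset.card_insert_of_notMem, Finset.card_pair a6]
  · simp [a4, a5]
  · simp [a1, a2, a3]

theorem Four.orb_σ {σ τ : Perm α} {p : α} (h : Four σ τ p) {x w : α} (hw : w ∈ orb σ τ x) : σ w ∈ orb σ τ x := by
  rw [mem_orb] at hw ⊢
  rcases hw with e | e | e | e
  · right; left; rw [e]
  · left; rw [e, h.hσ]
  · right; right; right; rw [e]
  · right; right; left; rw [e, h.hσ]

theorem Four.orb_τ {σ τ : Perm α} {p : α} (h : Four σ τ p) {x w : α} (hw : w ∈ orb σ τ x) : τ w ∈ orb σ τ x := by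
  rw [mem_orb] at hw ⊢
  rcases hw with e | e | e | e
  · right; right; left; rw [e]
  · right; right; right; rw [e, h.hc]
  · left; rw [e, h.hτ]
  · right; left; rw [e, ← h.hc, h.hτ]

theorem Four.double {σ τ δ : Perm α} {p : α} (h : Four σ τ p) (hα : Fintype.card α = 9)
    (h1 : ∀ x, δ (σ x) = σ (δ x)) (h2 : ∀ x, δ (τ x) = τ (δ x)) : δ ^ 2 ^ 2 = 1 := by
  have hδp : δ p = p := by rw [← h.s1, ← h1, (h.s1 p).2 rfl]
  -- elements of the four-group
  have key : ∀ x y, y ∈ orb σ τ x → δ x = y → δ (δ x) = x := by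
    intro x y hy hxy
    rw [mem_orb] at hy
    rcases hy with e | e | e | e
    · rw [hxy, e, ← e, ← hxy]
      have : δ x = x := hxy.trans e
      rw [this, this]
    · have : δ x = σ x := hxy.trans e
      rw [this, h1, this, h.hσ]
    · have : δ x = τ x := hxy.trans e
      rw [this, h2, this, h.hτ]
    · have : δ x = σ (τ x) := hxy.trans e
      rw [this, h1, h2, this, ← h.hc, h.hτ, h.hσ]
  have key2 : ∀ x, δ (δ x) ∈ orb σ τ x → δ (δ (δ (δ x))) = x := by
    intro x hy
    rw [mem_orb] at hy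
    rcases hy with e | e | e | e
    · rw [e, e]
    · rw [e, h1, h1, e, h.hσ]
    · rw [e, h2, h2, e, h.hτ]
    · rw [e, h1, h1, h2, h2, e, ← h.hc, h.hτ, h.hσ]
  have main : ∀ x, δ (δ (δ (δ x))) = x := by
    intro x
    by_cases hx : x = p
    · rw [hx, hδp, hδp, hδp, hδp]
    by_cases hy : δ x ∈ orb σ τ x
    · have := key x _ hy rfl
      rw [this, this]
    apply key2
    -- the orbits of `x` and `δ x` fill everything
    have hyp : δ x ≠ p := fun e => hx (δ.injective (by rw [e, hδp]))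
    have hdis : Disjoint (orb σ τ x) (orb σ τ (δ x)) := by
      rw [Finset.disjoint_left]
      intro w hw hw'
      apply hy
      rw [mem_orb] at hw'
      rcases hw' with e' | e' | e' | e'
      · rwa [← e']
      · have : δ x = σ w := by rw [e', h.hσ]
        rw [this]; exact h.orb_σ hw
      · have : δ x = τ w := by rw [e', h.hτ]
        rw [this]; exact h.orb_τ hw
      · have : δ x = τ (σ w) := by rw [e', h.hσ, h.hτ]
        rw [this]; exact h.orb_τ (h.orb_σ hw)
    have hpx : p ∉ orb σ τ x := by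
      rw [mem_orb]
      have q1 : σ p = p := (h.s1 p).2 rfl
      have q2 : τ p = p := (h.s2 p).2 rfl
      rintro (e | e | e | e)
      · exact hx e.symm
      · exact hx (by rw [← h.hσ x, ← e, q1])
      · exact hx (by rw [← h.hτ x, ← e, q2])
      · exact hx (by rw [← h.hτ x, ← h.hσ (τ x), ← e, q1, q2])
    have hpy : p ∉ orb σ τ (δ x) := by
      rw [mem_orb]
      have q1 : σ p = p := (h.s1 p).2 rfl
      have q2 : τ p = p := (h.s2 p).2 rfl
      rintro (e | e | e | e)
      · exact hyp e.symm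
      · exact hyp (by rw [← h.hσ (δ x), ← e, q1])
      · exact hyp (by rw [← h.hτ (δ x), ← e, q2])
      · exact hyp (by rw [← h.hτ (δ x), ← h.hσ (τ (δ x)), ← e, q1, q2])
    have hcard : (insert p (orb σ τ x ∪ orb σ τ (δ x))).card = 9 := by
      rw [Finset.card_insert_of_notMem, Finset.card_union_of_disjoint hdis, h.card_orb hx, h.card_orb hyp]
      rw [Finset.mem_union]
      exact fun h' => h'.elim hpx hpy
    have huniv : insert p (orb σ τ x ∪ orb σ τ (δ x)) = Finset.univ := by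
      rw [← Finset.card_eq_iff_eq_univ, hcard, hα]
    have hmem : δ (δ x) ∈ insert p (orb σ τ x ∪ orb σ τ (δ x)) := by rw [huniv]; exact Finset.mem_univ _
    rw [Finset.mem_insert, Finset.mem_union] at hmem
    rcases hmem with e | e | e
    · exact absurd (δ.injective (by rw [e, hδp])) hyp
    · exact e
    · exfalso
      apply hy
      rw [mem_orb] at e ⊢
      rcases e with e | e | e | e
      · left; exact δ.injective e
      · right; left; exact δ.injective (by rw [e, h1])
      · right; right; left; exact δ.injective (by rw [e, h2])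
      · right; right; right; exact δ.injective (by rw [e, h1, h2])
  ext x
  rw [show (2 : ℕ) ^ 2 = 4 from rfl]
  exact main x

/-! ### Signalizers of `E₁₆` -/

theorem sig (hα : Fintype.card α = 9) {E : Subgroup C} (hE : IsElementaryAbelian 2 E) (hcard : Nat.card E = 2 ^ 4)
    (hz : K.z ∈ E) [Finite C] {D : Subgroup C} (hED : E ≤ normalizer (D : Set C)) (hD : Odd (Nat.card D)) :
    D = ⊥ := by
  have : Fact (Nat.Prime 2) := ⟨Nat.prime_two⟩
  have hE1 : E ≠ ⊥ := by
    intro h
    rw [h, Subgroup.card_bot] at hcard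
    norm_num at hcard
  have h := Cfsg.Agent.Lib.CoprimeHyperplane.iSup_centralizer_hyperplane hE hE1 (not_two_dvd hD) hED
  rw [← h, eq_bot_iff]
  refine iSup_le ?_
  rintro ⟨B, hBE, hB⟩
  have hBcard : Nat.card B = 8 := by
    have h1 := Subgroup.relIndex_mul_relIndex ⊥ B E bot_le hBE
    rw [hB, Subgroup.relIndex_bot_left, Subgroup.relIndex_bot_left, hcard] at h1
    omega
  -- choose `a, b ∈ B`
  obtain ⟨a, haB, ha⟩ : ∃ a ∈ B, a ∉ ({1, K.z} : Set C) := by
    by_contra hcon
    push Not at hcon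
    have h1 : (B : Set C).ncard ≤ ({1, K.z} : Set C).ncard := Set.ncard_le_ncard hcon (Set.toFinite _)
    have h2 : ({1, K.z} : Set C).ncard ≤ 2 := (Set.ncard_insert_le _ _).trans (by rw [Set.ncard_singleton])
    have h3 : (B : Set C).ncard = 8 := by rw [← hBcard]; exact (Nat.card_coe_set_eq _).symm
    omega
  obtain ⟨b, hbB, hb⟩ : ∃ b ∈ B, b ∉ ({1, K.z, a, a * K.z} : Set C) := by
    by_contra hcon
    push Not at hcon
    have h1 : (B : Set C).ncard ≤ ({1, K.z, a, a * K.z} : Set C).ncard := Set.ncard_le_ncard hcon (Set.toFinite _)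
    have h2 : ({1, K.z, a, a * K.z} : Set C).ncard ≤ 4 := by
      refine (Set.ncard_insert_le _ _).trans ?_
      refine Nat.succ_le_succ ((Set.ncard_insert_le _ _).trans ?_)
      refine Nat.succ_le_succ ((Set.ncard_insert_le _ _).trans (by rw [Set.ncard_singleton]))
    have h3 : (B : Set C).ncard = 8 := by rw [← hBcard]; exact (Nat.card_coe_set_eq _).symm
    omega
  simp only [Set.mem_insert_iff, Set.mem_singleton_iff, not_or] at ha hb
  have haE := hBE haB
  have hbE := hBE hbB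
  have ha2 := elem_sq hE a haE
  have hb2 := elem_sq hE b hbE
  have hab := elem_comm hE a haE b hbE
  have hab2 := elem_sq hE (a * b) (E.mul_mem haE hbE)
  have hab1 : a * b ≠ 1 := by
    intro e
    rw [mul_eq_one_iff_eq_inv, inv_eq_of_mul_eq_one_left hb2] at e
    exact hb.2.2.1 e.symm
  have habz : a * b ≠ K.z := by
    intro e
    apply hb.2.2.2
    rw [← e, ← mul_assoc, ha2, one_mul]
  have hlt : Fintype.card α < 16 := by omega
  obtain ⟨p, hp⟩ := exists_four hα (σ := K.π a) (τ := K.π b) (by rw [← map_mul, ha2, map_one])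
    (by rw [← map_mul, hb2, map_one]) (by rw [← map_mul, hab, map_mul])
    (card_support_of_involution K hlt ha2 ha.1 ha.2) (card_support_of_involution K hlt hb2 hb.1 hb.2.1)
    (by rw [← map_mul]; exact card_support_of_involution K hlt hab2 hab1 habz)
  rintro d ⟨hdD, hdB⟩
  rw [Subgroup.mem_bot]
  have hda : ∀ x, K.π d (K.π a x) = K.π a (K.π d x) := by
    intro x
    have h1 := mem_centralizer_iff.1 hdB a haB
    rw [← Perm.mul_apply, ← Perm.mul_apply, ← map_mul, ← map_mul, h1]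
  have hdb : ∀ x, K.π d (K.π b x) = K.π b (K.π d x) := by
    intro x
    have h1 := mem_centralizer_iff.1 hdB b hbB
    rw [← Perm.mul_apply, ← Perm.mul_apply, ← map_mul, ← map_mul, h1]
  exact eq_one_of_map_pow K hD hdD (hp.double hα hda hdb)

/-! ### Fusion of involutions -/

theorem exists_even_conj' {σ τ : Perm α} (h : IsConj σ τ) (hσ : σ * σ = 1) {a : α} (ha : σ a ≠ a) :
    ∃ c ∈ alternatingGroup α, c * σ * c⁻¹ = τ := by
  obtain ⟨c, hc⟩ := isConj_iff.1 h
  by_cases hce : c ∈ alternatingGroup α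
  · exact ⟨c, hce, hc⟩
  refine ⟨c * swap a (σ a), ?_, ?_⟩
  · rw [Perm.mem_alternatingGroup] at hce ⊢
    rw [map_mul, Perm.sign_swap ha.symm]
    rcases Int.units_eq_one_or (Perm.sign c) with h1 | h1
    · exact absurd h1 hce
    · rw [h1]; decide
  · have hcomm : swap a (σ a) * σ = σ * swap a (σ a) := by
      have h2 := Equiv.mul_swap_eq_swap_mul σ a (σ a)
      rw [sq_apply hσ, swap_comm (σ a) a] at h2
      exact h2.symm
    rw [mul_assoc c, hcomm, mul_inv_rev, ← hc]
    simp only [mul_assoc, swap_inv, swap_mul_self_mul]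

theorem fus (hα' : Fintype.card α < 16) {g h : C}
    (hg : g * g = 1) (hg1 : g ≠ 1) (hgz : g ≠ K.z) (hh : h * h = 1) (hh1 : h ≠ 1) (hhz : h ≠ K.z) :
    ∃ c, c * g * c⁻¹ = h := by
  have hgs := card_support_of_involution K hα' hg hg1 hgz
  have hhs := card_support_of_involution K hα' hh hh1 hhz
  have hg2 := (K.sq_eq_one_iff.1 hg).1
  have hh2 := (K.sq_eq_one_iff.1 hh).1
  have hconj : IsConj (K.π g) (K.π h) := by
    rw [Perm.isConj_iff_cycleType_eq, cycleType_of_involution hg2 (k := 4) hgs,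
      cycleType_of_involution hh2 (k := 4) hhs]
  obtain ⟨a, ha⟩ := Finset.card_pos.1 (show 0 < (K.π g).support.card by rw [hgs]; norm_num)
  rw [Perm.mem_support] at ha
  obtain ⟨c, hc, hcc⟩ := exists_even_conj' hconj hg2 ha
  obtain ⟨d, rfl⟩ := K.exists_lift hc
  rw [← map_mul, ← map_inv, ← map_mul] at hcc
  rcases K.lift_eq hcc with e | e
  · exact ⟨d, e⟩
  · obtain ⟨w, hw⟩ := K.exists_conj_mul_z hh2 (by
      intro h0
      rw [h0, Perm.support_one, Finset.card_empty] at hhs
      exact absurd hhs (by norm_num))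
    refine ⟨w * d, ?_⟩
    calc w * d * g * (w * d)⁻¹ = w * (d * g * d⁻¹) * w⁻¹ := by group
      _ = w * h * w⁻¹ * K.z := by rw [e, ← mul_assoc, mul_assoc _ K.z, ← K.z_comm, ← mul_assoc]
      _ = h := by rw [hw, mul_assoc, K.z_mul_z, mul_one]

/-! ### The balance condition -/

theorem apply_inv_self' (ν : Perm α) (x : α) : ν (ν⁻¹ x) = x := by
  rw [← Perm.mul_apply, mul_inv_cancel, Perm.one_apply]

/-- Permutations moving every point inside its `σ`-orbit and commuting with `σ`. -/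
def Loc (σ ρ : Perm α) : Prop := (∀ x, ρ x = x ∨ ρ x = σ x) ∧ ∀ x, ρ (σ x) = σ (ρ x)

theorem Loc.mul {σ ρ ρ' : Perm α} (hσ : ∀ x, σ (σ x) = x) (h : Loc σ ρ) (h' : Loc σ ρ') : Loc σ (ρ * ρ') := by
  refine ⟨fun x => ?_, fun x => ?_⟩
  · rw [Perm.mul_apply]
    rcases h'.1 x with e | e <;> rw [e]
    · exact h.1 x
    · rw [h.2]
      rcases h.1 x with e' | e' <;> rw [e']
      · right; rfl
      · left; exact hσ x
  · rw [Perm.mul_apply, Perm.mul_apply, h'.2, h.2]

theorem Loc.sq {σ ρ : Perm α} (hσ : ∀ x, σ (σ x) = x) (h : Loc σ ρ) : ρ * ρ = 1 := by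
  ext x
  rw [Perm.mul_apply, Perm.one_apply]
  rcases h.1 x with e | e
  · rw [e, e]
  · rw [e, h.2, e, hσ]

theorem Loc.conj {σ ρ ν : Perm α} (h : Loc σ ρ) (hν : ∀ x, ν (σ x) = σ (ν x)) : Loc σ (ν * ρ * ν⁻¹) := by
  have hν' : ∀ x, ν⁻¹ (σ x) = σ (ν⁻¹ x) := by
    intro x
    apply ν.injective
    rw [hν, apply_inv_self', apply_inv_self']
  refine ⟨fun x => ?_, fun x => ?_⟩
  · rw [Perm.mul_apply, Perm.mul_apply]
    rcases h.1 (ν⁻¹ x) with e | e <;> rw [e]
    · left; exact apply_inv_self' _ _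
    · right; rw [hν, apply_inv_self']
  · rw [Perm.mul_apply, Perm.mul_apply, Perm.mul_apply, Perm.mul_apply, hν', h.2, hν]

/-- The flip of two `σ`-orbits. -/
theorem loc_flip {σ : Perm α} (hσ : ∀ x, σ (σ x) = x) {a c : α} (ha : σ a ≠ a) (hc : σ c ≠ c) (hca : c ≠ a)
    (hcb : c ≠ σ a) : (∀ x, (swap a (σ a) * swap c (σ c)) x = if x = a ∨ x = σ a ∨ x = c ∨ x = σ c then σ x else x) := by
  intro x
  have h1 : σ c ≠ a := fun h => hcb (by rw [← h, hσ])
  have h2 : σ c ≠ σ a := fun h => hca (σ.injective h)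
  rw [Perm.mul_apply]
  split_ifs with hx
  · rcases hx with rfl | rfl | rfl | rfl
    · rw [swap_apply_of_ne_of_ne hca.symm h1.symm, swap_apply_left]
    · rw [swap_apply_of_ne_of_ne hcb.symm h2.symm, swap_apply_right, hσ]
    · rw [swap_apply_left, swap_apply_of_ne_of_ne h1 h2]
    · rw [swap_apply_right, swap_apply_of_ne_of_ne hca hcb, hσ]
  · push Not at hx
    rw [swap_apply_of_ne_of_ne hx.2.2.1 hx.2.2.2, swap_apply_of_ne_of_ne hx.1 hx.2.1]

theorem loc_flip' {σ : Perm α} (hσ : ∀ x, σ (σ x) = x) {a c : α} (ha : σ a ≠ a) (hc : σ c ≠ c) (hca : c ≠ a)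
    (hcb : c ≠ σ a) : Loc σ (swap a (σ a) * swap c (σ c)) := by
  have h := loc_flip hσ ha hc hca hcb
  refine ⟨fun x => ?_, fun x => ?_⟩
  · rw [h]
    split_ifs
    · right; rfl
    · left; rfl
  · rw [h, h]
    have e : (σ x = a ∨ σ x = σ a ∨ σ x = c ∨ σ x = σ c) ↔ (x = a ∨ x = σ a ∨ x = c ∨ x = σ c) := by
      constructor
      · rintro (e | e | e | e)
        · right; left; rw [← e, hσ]
        · left; exact σ.injective e
        · right; right; right; rw [← e, hσ]
        · right; right; left; exact σ.injective e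
      · rintro (e | e | e | e)
        · right; left; rw [e]
        · left; rw [e, hσ]
        · right; right; right; rw [e]
        · right; right; left; rw [e, hσ]
    by_cases hx : (x = a ∨ x = σ a ∨ x = c ∨ x = σ c)
    · rw [if_pos (e.2 hx), if_pos hx]
    · rw [if_neg (fun h' => hx (e.1 h')), if_neg hx]

theorem bal (hα : Fintype.card α = 9) {v : C} (hv : v * v = 1) (hv1 : v ≠ 1) (hvz : v ≠ K.z) [Finite C]
    {N : Subgroup C} (hN : N ≤ centralizer ({v} : Set C)) (hn : centralizer ({v} : Set C) ≤ normalizer (N : Set C))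
    (hodd : Odd (Nat.card N)) : N = ⊥ := by
  have hs := card_support_of_involution K (by omega) hv hv1 hvz
  obtain ⟨p, hp⟩ := exists_unique_fixed hα hs
  obtain ⟨σ, hσdef⟩ : ∃ σ, σ = K.π v := ⟨_, rfl⟩
  rw [← hσdef] at hs hp
  have hσ2 : σ * σ = 1 := by rw [hσdef, ← map_mul, hv, map_one]
  have hσ := sq_apply hσ2
  rw [eq_bot_iff]
  intro n hnN
  rw [Subgroup.mem_bot]
  have hnv : ∀ x, K.π n (σ x) = σ (K.π n x) := by
    intro x
    have h1 := mem_centralizer_singleton_iff.1 (hN hnN)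
    rw [hσdef, ← Perm.mul_apply, ← Perm.mul_apply, ← map_mul, ← map_mul, h1]
  -- `n` commutes with flips
  have hflip : ∀ a c, σ a ≠ a → σ c ≠ c → c ≠ a → c ≠ σ a →
      ∀ x, K.π n ((swap a (σ a) * swap c (σ c)) x) = (swap a (σ a) * swap c (σ c)) (K.π n x) := by
    intro a c ha hc hca hcb
    obtain ⟨f, hf⟩ := K.exists_lift (Cover.swap_mul_swap_mem a (σ a) c (σ c) ha.symm hc.symm)
    have hloc := loc_flip' hσ ha hc hca hcb
    -- `f` commutes with `v`
    have hfv : f ∈ centralizer ({v} : Set C) := by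
      have hdis : (K.π f).Disjoint (K.π (f⁻¹ * v)) := by
        intro x
        by_cases hx : x = a ∨ x = σ a ∨ x = c ∨ x = σ c
        · right
          rw [map_mul, map_inv, hf, ← hσdef, Cover.split_apply hσ2 ha hc hca hcb, if_pos hx]
        · left
          rw [hf, loc_flip hσ ha hc hca hcb, if_neg hx]
      have h1 := K.commute_of_disjoint hdis
      rw [mem_centralizer_singleton_iff]
      calc f * v = f * (f * (f⁻¹ * v)) := by group
        _ = f * ((f⁻¹ * v) * f) := by rw [h1]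
        _ = v * f := by group
    have hcN : f * n * f⁻¹ * n⁻¹ ∈ N := N.mul_mem ((Subgroup.le_normalizer_iff.1 hn) f hfv n hnN) (N.inv_mem hnN)
    have hφ : ∀ w : Perm α, w = K.π f → Loc σ w := by rintro w rfl; rw [hf]; exact hloc
    have hφ2 : K.π f * K.π f = 1 := (hφ _ rfl).sq hσ
    have hφi : (K.π f)⁻¹ = K.π f := inv_eq_of_mul_eq_one_left hφ2
    have hc1 : K.π (f * n * f⁻¹ * n⁻¹) = K.π f * (K.π n * K.π f * (K.π n)⁻¹) := by
      rw [map_mul, map_mul, map_mul, map_inv, map_inv, hφi]; group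
    have hc2 : K.π (f * n * f⁻¹ * n⁻¹) ^ 2 ^ 1 = 1 := by
      rw [hc1, pow_one, pow_two]
      exact ((hφ _ rfl).mul hσ ((hφ _ rfl).conj hnv)).sq hσ
    have h3 := eq_one_of_map_pow K hodd hcN hc2
    have h4 : f * n = n * f := by
      rw [mul_inv_eq_one, mul_inv_eq_iff_eq_mul] at h3
      exact h3
    intro x
    rw [← hf, ← Perm.mul_apply, ← Perm.mul_apply, ← map_mul, ← map_mul, h4]
  -- hence `n` is local
  have hloc : Loc σ (K.π n) := by
    refine ⟨fun x => ?_, hnv⟩
    by_cases hx : x = p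
    · left
      have h1 : σ (K.π n x) = K.π n x := by rw [← hnv, (hp x).2 hx]
      rw [(hp _).1 h1, hx]
    have hxs : σ x ≠ x := fun e => hx ((hp x).1 e)
    have hc1 : ({x, σ x} : Finset α).card ≤ 2 := Finset.card_le_two
    obtain ⟨c, hc⟩ : ∃ c, c ∈ σ.support \ ({x, σ x} : Finset α) := by
      rw [← Finset.Nonempty, ← Finset.card_pos]
      have := Finset.le_card_sdiff ({x, σ x} : Finset α) σ.support
      omega
    rw [Finset.mem_sdiff, Perm.mem_support, Finset.mem_insert, Finset.mem_singleton, not_or] at hc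
    have hc2 : ({x, σ x, c, σ c} : Finset α).card ≤ 4 := Finset.card_le_four
    obtain ⟨d, hd⟩ : ∃ d, d ∈ σ.support \ ({x, σ x, c, σ c} : Finset α) := by
      rw [← Finset.Nonempty, ← Finset.card_pos]
      have := Finset.le_card_sdiff ({x, σ x, c, σ c} : Finset α) σ.support
      omega
    rw [Finset.mem_sdiff, Perm.mem_support, Finset.mem_insert, Finset.mem_insert, Finset.mem_insert,
      Finset.mem_singleton, not_or, not_or, not_or] at hd
    have hne : ∀ w, σ w ≠ w → w ≠ x → w ≠ σ x →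
        K.π n x = x ∨ K.π n x = σ x ∨ K.π n x = w ∨ K.π n x = σ w := by
      intro w hw hwx hwx'
      have h1 := hflip x w hxs hw hwx hwx' x
      rw [loc_flip hσ hxs hw hwx hwx', loc_flip hσ hxs hw hwx hwx', if_pos (Or.inl rfl), hnv] at h1
      by_contra hcon
      rw [if_neg hcon] at h1
      exact hxs ((K.π n).injective (by rw [hnv]; exact h1))
    rcases hne c hc.1 hc.2.1 hc.2.2 with e | e | e | e
    · left; exact e
    · right; exact e
    · rcases hne d hd.1 hd.2.1 hd.2.2.1 with e' | e' | e' | e'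
      · left; exact e'
      · right; exact e'
      · exact absurd (e'.symm.trans e) hd.2.2.2.1
      · exfalso
        apply hd.2.2.2.2
        rw [← hσ d, ← e', e]
    · rcases hne d hd.1 hd.2.1 hd.2.2.1 with e' | e' | e' | e'
      · left; exact e'
      · right; exact e'
      · exact absurd (e'.symm.trans e) hd.2.2.2.2
      · exact absurd (σ.injective (e'.symm.trans e)) hd.2.2.2.1
  refine eq_one_of_map_pow K hodd hnN (k := 1) ?_
  rw [pow_one, pow_two]
  exact hloc.sq hσ

theorem coreHyp [Finite C] (hα : Fintype.card α = 9) : CoreHyp C K.z 4 := by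
  have hex : ∃ E : Subgroup C, IsElementaryAbelian 2 E ∧ Nat.card E = 2 ^ 4 ∧ K.z ∈ E := by
    have e : α ≃ V ⊕ Fin 1 := Fintype.equivOfCardEq (by rw [hα, Fintype.card_sum, card_V, Fintype.card_fin])
    let K' : Cover (V ⊕ Fin 1) C := K.congr e
    have hz : K'.z = K.z := rfl
    refine ⟨A K', elem_mk (fun a ha b hb => comm_of_mem_A K' ha hb) (fun a ha => mul_self_of_mem_A K' ha), ?_, ?_⟩
    · rw [card_A]; norm_num
    · rw [← hz]; exact z_mem_A K'
  refine ⟨K.z_mul_z, K.z_ne, ?_, ?_, ?_, by norm_num, hex, ?_⟩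
  · intro N hN hodd
    obtain ⟨E, hE, hcard, hz⟩ := hex
    refine sig K hα hE hcard hz ?_ hodd
    rw [Subgroup.normalizer_eq_top_iff.2 hN]
    exact le_top
  · intro v w h1 h2 h3 h4 h5 h6
    exact fus K (by omega) h1 h2 h3 h4 h5 h6
  · intro v h1 h2 h3 N hN hn hodd
    exact bal K hα h1 h2 h3 hN hn hodd
  · intro E hE hcard hz D hED hD
    exact sig K hα hE hcard hz hED hD

end Cfsg.Agent.NineCore.TwoNine
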