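import Cfsg.Agent.NineCore.Final
import Cfsg.Agent.SporRec.TwoNine.Main
import Cfsg.Agent.S0217

/-!
# The base case: an involution with centraliser `2.A₉` is isolated
-/

set_option autoImplicit false
set_option linter.unusedSectionVars false

namespace Cfsg.Agent.NineCore.Base

open Subgroup Cfsg Equiv
open Cfsg.Agent.NineCore.Proj Cfsg.Agent.NineCore.NoTarget Cfsg.Agent.NineCore.Final
open Cfsg.Agent.SporRec.TwoAn
open Cfsg.Agent.SporadicRecognition.AltCover

universe u v

/-- The non-split extension of a cover. -/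
theorem isCover_of_cover {n : ℕ} (hn : 4 ≤ n) {C : Type u} [Group C] (K : Cover (Fin n) C) :
    ∃ π : C →* alternatingGroup (Fin n), IsCover π K.z := by
  have hmem : ∀ g, K.π g ∈ alternatingGroup (Fin n) := K.mem_alternating
  refine ⟨K.π.codRestrict _ hmem, ⟨K.z_ne, K.z_mul_z, K.z_comm, ?_, ?_, ?_⟩⟩
  · rintro ⟨σ, hσ⟩
    obtain ⟨g, hg⟩ := K.exists_lift hσ
    exact ⟨g, Subtype.ext hg⟩
  · intro x
    rw [← K.ker x]
    exact Subtype.ext_iff
  · intro s hs
    let a : Fin n := ⟨0, by omega⟩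
    let b : Fin n := ⟨1, by omega⟩
    let c : Fin n := ⟨2, by omega⟩
    let d : Fin n := ⟨3, by omega⟩
    have hab : a ≠ b := by simp [a, b]
    have hac : a ≠ c := by simp [a, c]
    have had : a ≠ d := by simp [a, d]
    have hbc : b ≠ c := by simp [b, c]
    have hbd : b ≠ d := by simp [b, d]
    have hcd : c ≠ d := by simp [c, d]
    obtain ⟨σ, hσ⟩ : ∃ σ : alternatingGroup (Fin n), (σ : Perm (Fin n)) = swap a b * swap c d :=
      ⟨⟨_, Cover.swap_mul_swap_mem a b c d hab hcd⟩, rfl⟩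
    have h1 : K.π (s σ) = swap a b * swap c d := by
      rw [← hσ]; exact congrArg Subtype.val (hs σ)
    have h2 := K.dbl a b c d hab hac had hbc hbd hcd (s σ) h1
    have h3 : σ * σ = 1 := by
      apply Subtype.ext
      have h4 : K.π (s σ * s σ) = 1 := by rw [h2, K.π_z]
      rw [map_mul, h1, ← hσ] at h4
      exact h4
    rw [← map_mul, h3, map_one] at h2
    exact K.z_ne h2.symm

theorem baseNine : BaseNine.{u} := by
  intro G _ _ z hz K hK
  refine ⟨hz, fun g hg => ?_⟩
  by_contra hne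
  obtain ⟨hz2, hz1⟩ := orderOf_two_iff.1 hz
  obtain ⟨π, hπ⟩ := isCover_of_cover (by norm_num) K
  rw [hK] at hπ
  refine Cfsg.Agent.SporRec.TwoNine.Main.nine_ten (Or.inl rfl) hπ (u := g * z * g⁻¹) ?_ ?_ hne hg.symm ⟨g, rfl⟩
  · calc g * z * g⁻¹ * (g * z * g⁻¹) = g * (z * z) * g⁻¹ := by group
      _ = 1 := by rw [hz2]; group
  · intro h
    apply hz1
    calc z = g⁻¹ * (g * z * g⁻¹) * g := by group
      _ = 1 := by rw [h]; group

theorem sfStatement : SFStatement.{u} := by
  intro G _ _ A h1 h2 h3 θ h4 h5 h6 h7 h8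
  have : Fact (Nat.Prime 2) := ⟨Nat.prime_two⟩
  exact Cfsg.Agent.S0217.result A h1 h2 h3 θ h4 h5 h6 h7 h8

end Cfsg.Agent.NineCore.Base
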