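import Cfsg.Agent.NineCore.Main
import Cfsg.Agent.NineCore.TwoNine
import Cfsg.Agent.SporadicRecognition.AltCover

/-!
# There is no simple group with `C_G(z)/O(C_G(z)) ≅ 2.A₉`

The theorem is stated relative to the odd order theorem, the solvable signalizer functor theorem and the case
`O(C_G(z)) = 1`.
-/

set_option autoImplicit false

namespace Cfsg.Agent.NineCore.Final

open Subgroup Cfsg
open Cfsg.Agent.NineCore.Proj Cfsg.Agent.NineCore.NoTarget
open Cfsg.Agent.SporRec.TwoAn
open Cfsg.Agent.SporadicRecognition.AltCover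

universe u v

/-- The case `O(C_G(z)) = 1`: an involution with centraliser `2.A₉` is isolated. -/
def BaseNine : Prop := ∀ (G : Type u) [Group G] [Finite G] (z : G), orderOf z = 2 →
  ∀ K : Cover (Fin 9) (centralizer ({z} : Set G)), K.z = ⟨z, mem_self z⟩ → IsIsolatedInvolution z

theorem isolated_of_quo (ft : FTStatement.{u}) (sf : SFStatement.{u}) (base : BaseNine.{u}) {X : Type v} [Group X]
    [Finite X] (K : Cover (Fin 9) X) {G : Type u} [Group G] [Finite G] {z : G} (hz : orderOf z = 2)
    (q : Quo K.z z) : IsIsolatedInvolution z := by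
  refine Cfsg.Agent.NineCore.Main.isolated (TwoNine.coreHyp K (Fintype.card_fin 9)) ft sf ?_ _ G rfl z hz ⟨q⟩
  rintro G _ _ z hz ⟨e, he⟩
  refine base G z hz (K.map e.symm) ?_
  change e.symm K.z = _
  rw [← he, MulEquiv.symm_apply_apply]

/-- **Core version of the nonexistence of groups with involution centraliser `2.A₉`.** -/
theorem isolated_of_doubleCover (ft : FTStatement.{u}) (sf : SFStatement.{u}) (base : BaseNine.{u})
    {G : Type u} [Group G] [Finite G] {z : G} (hz : orderOf z = 2)
    (hcov : IsNonsplitDoubleCover (centralizer ({z} : Set G) ⧸ oddCore (centralizer ({z} : Set G)))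
      (alternatingGroup (Fin 9))) : IsIsolatedInvolution z := by
  classical
  obtain ⟨π, z₀, hK, hcen⟩ := exists_isCover hcov
  let K : Cover (Fin 9) (centralizer ({z} : Set G) ⧸ oddCore (centralizer ({z} : Set G))) :=
    ofIsCover (by norm_num) hK
  have hodd : Odd (Nat.card (oddCore (centralizer ({z} : Set G)))) := by
    rw [← Nat.coprime_two_right]
    exact Cfsg.Agent.Lib.Cores.pPrimeCore_coprime 2
  refine isolated_of_quo ft sf base K hz ⟨QuotientGroup.mk' _, QuotientGroup.mk'_surjective _, ?_, ?_⟩
  · rw [QuotientGroup.ker_mk']; exact hodd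
  · have h1 : QuotientGroup.mk' (oddCore (centralizer ({z} : Set G))) ⟨z, mem_self z⟩ ∈
        center (centralizer ({z} : Set G) ⧸ oddCore (centralizer ({z} : Set G))) := by
      rw [mem_center_iff]
      intro x
      obtain ⟨x, rfl⟩ := QuotientGroup.mk'_surjective _ x
      rw [← map_mul, ← map_mul]
      congr 1
      exact Subtype.ext (mem_centralizer_singleton_iff.1 x.2)
    rcases (hcen _).1 h1 with h | h
    · exfalso
      rw [← MonoidHom.mem_ker, QuotientGroup.ker_mk'] at h
      have h2 := eq_one_of_odd (x := (⟨z, mem_self z⟩ : centralizer ({z} : Set G)))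
        (Subtype.ext (orderOf_two_iff.1 hz).1) hodd h
      exact (orderOf_two_iff.1 hz).2 (congrArg Subtype.val h2)
    · exact h

theorem false_of_doubleCover (ft : FTStatement.{u}) (sf : SFStatement.{u}) (base : BaseNine.{u})
    {G : Type u} [Group G] [Finite G] [IsSimpleGroup G] {z : G} (hz : orderOf z = 2)
    (hcov : IsNonsplitDoubleCover (centralizer ({z} : Set G) ⧸ oddCore (centralizer ({z} : Set G)))
      (alternatingGroup (Fin 9))) : False := by
  obtain ⟨N, hN, hodd, hc⟩ := exists_zstar (isolated_of_doubleCover ft sf base hz hcov)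
  have hNbot : N = ⊥ := by
    rcases hN.eq_bot_or_eq_top with h | h
    · exact h
    · exfalso
      have h1 : 2 ∣ Nat.card G := by rw [← hz]; exact orderOf_dvd_natCard z
      rw [h, Subgroup.card_top] at hodd
      exact not_two_dvd hodd h1
  have hzc : ∀ g : G, g ∈ centralizer ({z} : Set G) := by
    intro g
    have h1 := hc g
    rw [hNbot, Subgroup.mem_bot, mul_inv_eq_one, mul_inv_eq_iff_eq_mul] at h1
    exact mem_centralizer_singleton_iff.2 h1.symm
  have hzcen : z ∈ center G := mem_center_iff.2 fun g => mem_centralizer_singleton_iff.1 (hzc g)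
  have hct : center G = ⊤ := by
    rcases (inferInstance : (center G).Normal).eq_bot_or_eq_top with h2 | h2
    · rw [h2, mem_bot] at hzcen
      exact absurd hzcen (orderOf_two_iff.1 hz).2
    · exact h2
  -- then the double cover is commutative
  obtain ⟨π, z₀, hK, hcen⟩ := exists_isCover hcov
  have h1 : ∀ a b : alternatingGroup (Fin 9), a * b = b * a := by
    intro a b
    obtain ⟨x, rfl⟩ := hK.surj a
    obtain ⟨y, rfl⟩ := hK.surj b
    obtain ⟨x, rfl⟩ := QuotientGroup.mk'_surjective _ x
    obtain ⟨y, rfl⟩ := QuotientGroup.mk'_surjective _ y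
    rw [← map_mul, ← map_mul, ← map_mul, ← map_mul]
    congr 2
    apply Subtype.ext
    have : (x : G) ∈ center G := by rw [hct]; exact mem_top _
    exact (mem_center_iff.1 this y).symm
  have h2 : center (alternatingGroup (Fin 9)) = ⊤ := by
    rw [eq_top_iff]
    intro a _
    exact mem_center_iff.2 fun b => h1 b a
  have hc9 : center (alternatingGroup (Fin 9)) = ⊥ :=
    alternatingGroup.center_eq_bot (by rw [Nat.card_eq_fintype_card, Fintype.card_fin]; omega)
  rw [hc9] at h2
  have : Nontrivial (alternatingGroup (Fin 9)) :=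
    alternatingGroup.nontrivial_of_three_le_card
      (by rw [Nat.card_eq_fintype_card, Fintype.card_fin]; omega)
  exact bot_ne_top h2

end Cfsg.Agent.NineCore.Final
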