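import Cfsg.Agent.NineCore.Base
import Cfsg.Agent.TwoGenNineE.Glue
import Cfsg.Agent.S0205

/-!
# No simple group has an involution `z` with `C_G(z)/O(C_G(z)) ≅ 2.A₉` (unconditional)
-/

set_option autoImplicit false
set_option linter.unusedSectionVars false

namespace Cfsg.Agent.NineCore.Done

open Subgroup Cfsg
open Cfsg.Agent.NineCore.Proj Cfsg.Agent.NineCore.NoTarget
open Cfsg.Agent.SporRec.TwoAn

universe u v

theorem ftStatement : FTStatement.{u} := fun _ _ _ h => Cfsg.Agent.S0205.result h

theorem isolated_of_quo {X : Type v} [Group X] [Finite X] (K : Cover (Fin 9) X) {G : Type u} [Group G] [Finite G]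
    {z : G} (hz : orderOf z = 2) (q : Quo K.z z) : IsIsolatedInvolution z :=
  Final.isolated_of_quo ftStatement Base.sfStatement Base.baseNine K hz q

theorem isolated_of_doubleCover {G : Type u} [Group G] [Finite G] {z : G} (hz : orderOf z = 2)
    (hcov : IsNonsplitDoubleCover (centralizer ({z} : Set G) ⧸ oddCore (centralizer ({z} : Set G)))
      (alternatingGroup (Fin 9))) : IsIsolatedInvolution z :=
  Final.isolated_of_doubleCover ftStatement Base.sfStatement Base.baseNine hz hcov

theorem false_of_doubleCover {G : Type u} [Group G] [Finite G] [IsSimpleGroup G] {z : G} (hz : orderOf z = 2)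
    (hcov : IsNonsplitDoubleCover (centralizer ({z} : Set G) ⧸ oddCore (centralizer ({z} : Set G)))
      (alternatingGroup (Fin 9))) : False :=
  Final.false_of_doubleCover ftStatement Base.sfStatement Base.baseNine hz hcov

/-- The end of S1728, rank at least three. -/
theorem false_of_cover {G : Type u} [Group G] [Finite G] [IsSimpleGroup G] {z : G} (hz : orderOf z = 2)
    {N₀ : Subgroup (centralizer ({z} : Set G))} {X : Type v} [Group X] (K : Cover (Fin 9) X) (f : N₀ →* X)
    (hf : Function.Surjective f) (hker : Odd (Nat.card f.ker))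
    (hzN : (⟨z, mem_self z⟩ : centralizer ({z} : Set G)) ∈ N₀)
    (hfz : f ⟨⟨z, mem_self z⟩, hzN⟩ = K.z) (hodd : Odd N₀.index) {x : centralizer ({z} : Set G)}
    (hxN : x ∈ N₀) (hxt : x * x = ⟨z, mem_self z⟩)
    (hx : centralizer ({x} : Set (centralizer ({z} : Set G))) ≤ N₀) : False :=
  Cfsg.Agent.TwoGenNineE.Glue.false_of_cover ftStatement Base.sfStatement Base.baseNine hz K f hf hker hzN hfz hodd
    hxN hxt hx

end Cfsg.Agent.NineCore.Done
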