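import Cfsg.Agent.NineCore.NoTarget

/-!
# Groups with `C_G(z)/O(C_G(z)) ≅ X` and no target

If `X` satisfies `CoreHyp` and every involution with centraliser exactly `X` is isolated, then every involution `z`
with `C_G(z)/O(C_G(z)) ≅ X` is isolated.
-/

set_option autoImplicit false
set_option linter.unusedSectionVars false

namespace Cfsg.Agent.NineCore.Main

open Subgroup Cfsg
open Cfsg.Agent.NineCore.Proj Cfsg.Agent.NineCore.NoTarget

universe u v

variable {X : Type v} [Group X] {z₀ : X} {r : ℕ} {G : Type u} [Group G] [Finite G]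

/-- The projection in a subgroup covering `X`. -/
theorem quo_subgroup {z : G} (q : Quo z₀ z) {M : Subgroup G} (hz : z ∈ M)
    (hcov : ∀ y : X, ∃ c : centralizer ({z} : Set G), (c : G) ∈ M ∧ q.π c = y) :
    Nonempty (Quo z₀ (⟨z, hz⟩ : M)) := by
  let g : centralizer ({(⟨z, hz⟩ : M)} : Set M) →* centralizer ({z} : Set G) :=
    { toFun := fun x => ⟨(x : M), by
        rw [mem_centralizer_singleton_iff]
        exact congrArg Subtype.val (mem_centralizer_singleton_iff.1 x.2)⟩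
      map_one' := rfl
      map_mul' := fun _ _ => rfl }
  have hg : Function.Injective g := by
    intro x y hxy
    have h1 : ((g x : centralizer ({z} : Set G)) : G) = ((g y : centralizer ({z} : Set G)) : G) := by rw [hxy]
    exact Subtype.ext (Subtype.ext h1)
  refine ⟨⟨q.π.comp g, ?_, ?_, ?_⟩⟩
  · intro y
    obtain ⟨c, hc, rfl⟩ := hcov y
    refine ⟨⟨⟨c, hc⟩, ?_⟩, rfl⟩
    rw [mem_centralizer_singleton_iff]
    exact Subtype.ext (mem_centralizer_singleton_iff.1 c.2)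
  · have h1 : (q.π.comp g).ker = q.π.ker.comap g := rfl
    rw [h1]
    obtain ⟨k, hk⟩ := Subgroup.card_comap_dvd_of_injective q.π.ker g hg
    have h2 := q.odd
    rw [hk] at h2
    exact (Nat.odd_mul.1 h2).1
  · exact q.map_z

/-- The projection in a quotient by an odd normal subgroup. -/
theorem quo_quotient (hX : CoreHyp X z₀ r) {z : G} (hz : orderOf z = 2) (q : Quo z₀ z) {N : Subgroup G} [N.Normal]
    (hN : Odd (Nat.card N)) : Nonempty (Quo z₀ (QuotientGroup.mk' N z)) := by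
  have hz2 := orderOf_two_iff.1 hz
  let f : centralizer ({z} : Set G) →* centralizer ({QuotientGroup.mk' N z} : Set (G ⧸ N)) :=
    { toFun := fun x => ⟨QuotientGroup.mk' N x, by
        rw [mem_centralizer_singleton_iff, ← map_mul, ← map_mul, mem_centralizer_singleton_iff.1 x.2]⟩
      map_one' := Subtype.ext (map_one _)
      map_mul' := fun _ _ => Subtype.ext (map_mul _ _ _) }
  have hf : Function.Surjective f := by
    rintro ⟨y, hy⟩
    obtain ⟨c, hc, rfl⟩ := exists_lift_commute (QuotientGroup.mk'_surjective N)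
      (by rw [QuotientGroup.ker_mk']; exact hN) hz2.1 (mem_centralizer_singleton_iff.1 hy)
    exact ⟨⟨c, mem_centralizer_singleton_iff.2 hc⟩, rfl⟩
  have hker : f.ker ≤ q.π.ker := by
    intro x hx
    rw [MonoidHom.mem_ker] at hx ⊢
    rw [← q.map_eq_one_iff hX.core]
    have h1 : (x : G) ∈ N := by
      have h2 : QuotientGroup.mk' N (x : G) = 1 := congrArg Subtype.val hx
      rwa [← MonoidHom.mem_ker, QuotientGroup.ker_mk'] at h2
    have h2 : N ⊓ centralizer ({z} : Set G) ≤ core z := by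
      refine le_core inf_le_right ?_ (odd_of_le inf_le_left hN)
      rw [Subgroup.le_normalizer_iff]
      intro a ha y hy
      exact ⟨Normal.conj_mem inferInstance y hy.1 a,
        (centralizer ({z} : Set G)).mul_mem ((centralizer ({z} : Set G)).mul_mem ha hy.2)
          ((centralizer ({z} : Set G)).inv_mem ha)⟩
    exact h2 ⟨h1, x.2⟩
  let ρ : centralizer ({QuotientGroup.mk' N z} : Set (G ⧸ N)) →* X :=
    MonoidHom.liftOfRightInverse f (Function.surjInv hf) (Function.rightInverse_surjInv hf) ⟨q.π, hker⟩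
  have hρ : ∀ x, ρ (f x) = q.π x := fun x =>
    MonoidHom.liftOfRightInverse_comp_apply f (Function.surjInv hf) (Function.rightInverse_surjInv hf) ⟨q.π, hker⟩ x
  refine ⟨⟨ρ, ?_, ?_, ?_⟩⟩
  · intro y
    obtain ⟨c, rfl⟩ := q.surj y
    exact ⟨f c, hρ c⟩
  · have h1 : ρ.ker = q.π.ker.map f := by
      ext y
      obtain ⟨x, rfl⟩ := hf y
      rw [MonoidHom.mem_ker, hρ]
      constructor
      · intro h; exact ⟨x, h, rfl⟩
      · rintro ⟨x', hx', he⟩
        rw [← hρ, ← he, hρ]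
        exact hx'
    rw [h1]
    exact odd_card_map f q.odd
  · rw [← q.map_z, ← hρ]
    rfl

/-- One class of involutions. -/
theorem one_class (hX : CoreHyp X z₀ r) {z : G} (hz : orderOf z = 2) (q : Quo z₀ z) {g₀ : G}
    (hg₀ : g₀ * z * g₀⁻¹ ≠ z) (hcomm : z * (g₀ * z * g₀⁻¹) = g₀ * z * g₀⁻¹ * z) :
    ∀ x : G, orderOf x = 2 → ∃ g : G, g * z * g⁻¹ = x := by
  have hz2 := orderOf_two_iff.1 hz
  obtain ⟨u, hu⟩ : ∃ u, u = g₀ * z * g₀⁻¹ := ⟨_, rfl⟩
  rw [← hu] at hg₀ hcomm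
  have huu : u * u = 1 := by
    rw [hu]
    calc g₀ * z * g₀⁻¹ * (g₀ * z * g₀⁻¹) = g₀ * (z * z) * g₀⁻¹ := by group
      _ = 1 := by rw [hz2.1]; group
  have hu1 : u ≠ 1 := by
    intro h
    rw [h] at hu
    apply hz2.2
    have : z = g₀⁻¹ * (g₀ * z * g₀⁻¹) * g₀ := by group
    rw [this, ← hu]; group
  -- involutions commuting with `z` are conjugate to `z`
  have key : ∀ x : G, x * x = 1 → x ≠ 1 → x * z = z * x → ∃ g : G, g * z * g⁻¹ = x := by
    intro x hx hx1 hxz
    by_cases hxe : x = z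
    · exact ⟨1, by rw [hxe]; group⟩
    have inj : ∀ y : centralizer ({z} : Set G), y * y = 1 → q.π y = 1 → y = 1 := fun y hy hy1 =>
      eq_one_of_odd hy q.odd hy1
    have aux : ∀ y : G, y * y = 1 → y ≠ 1 → y ≠ z → ∀ hy : y ∈ centralizer ({z} : Set G),
        q.π ⟨y, hy⟩ * q.π ⟨y, hy⟩ = 1 ∧ q.π ⟨y, hy⟩ ≠ 1 ∧ q.π ⟨y, hy⟩ ≠ z₀ := by
      intro y hy hy1 hyz hyC
      have h2 : (⟨y, hyC⟩ : centralizer ({z} : Set G)) * ⟨y, hyC⟩ = 1 := Subtype.ext hy
      refine ⟨by rw [← map_mul, h2, map_one], fun h => hy1 (congrArg Subtype.val (inj _ h2 h)), fun h => ?_⟩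
      have h3 := inj (⟨y, hyC⟩ * ⟨z, mem_self z⟩) (by
        apply Subtype.ext
        change y * z * (y * z) = 1
        calc y * z * (y * z) = y * (z * y) * z := by group
          _ = y * y * (z * z) := by rw [← mem_centralizer_singleton_iff.1 hyC]; group
          _ = 1 := by rw [hy, hz2.1, one_mul]) (by rw [map_mul, h, q.map_z, hX.ord])
      have h4 : y * z = 1 := congrArg Subtype.val h3
      rw [mul_eq_one_iff_eq_inv, inv_eq_of_mul_eq_one_left hz2.1] at h4
      exact hyz h4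
    have huC : u ∈ centralizer ({z} : Set G) := mem_centralizer_singleton_iff.2 hcomm.symm
    have hxC : x ∈ centralizer ({z} : Set G) := mem_centralizer_singleton_iff.2 hxz
    obtain ⟨a1, a2, a3⟩ := aux u huu hu1 hg₀ huC
    obtain ⟨b1, b2, b3⟩ := aux x hx hx1 hxe hxC
    obtain ⟨g, hg⟩ := hX.fus _ _ a1 a2 a3 b1 b2 b3
    obtain ⟨c, hc, -⟩ := exists_lift_conj q.surj q.odd (a := ⟨u, huC⟩) (b := ⟨x, hxC⟩) (Subtype.ext huu)
      (Subtype.ext hx) hg
    have hc' : (c : G) * u * (c : G)⁻¹ = x := congrArg Subtype.val hc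
    refine ⟨c * g₀, ?_⟩
    rw [← hc', hu]
    group
  -- a central involution of a Sylow subgroup
  have : Fact (Nat.Prime 2) := ⟨Nat.prime_two⟩
  have hp : IsPGroup 2 (zpowers z) := by
    rw [IsPGroup.iff_card]
    exact ⟨1, by rw [Nat.card_zpowers, hz, pow_one]⟩
  obtain ⟨P, hP⟩ := hp.exists_le_sylow
  have hzP : z ∈ P := hP (mem_zpowers z)
  have hPnt : Nontrivial P := ⟨⟨⟨z, hzP⟩, 1, fun h => hz2.2 (congrArg Subtype.val h)⟩⟩
  have hcn : Nontrivial (center P) := P.isPGroup'.center_nontrivial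
  have h2d : 2 ∣ Nat.card (center P) := by
    have h1 : IsPGroup 2 (center P) := P.isPGroup'.to_subgroup _
    obtain ⟨k, hk0, hk⟩ := h1.nontrivial_iff_card.1 hcn
    rw [hk]; exact dvd_pow_self 2 hk0.ne'
  obtain ⟨t, ht⟩ := exists_prime_orderOf_dvd_card' 2 h2d
  have ht0 : orderOf (((t : center P) : P) : G) = 2 := by
    rw [Subgroup.orderOf_coe, Subgroup.orderOf_coe, ht]
  have ht2 := orderOf_two_iff.1 ht0
  have htc : ∀ x ∈ P, x * ((t : P) : G) = ((t : P) : G) * x := fun x hx =>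
    congrArg Subtype.val ((Subgroup.mem_center_iff.1 t.2) ⟨x, hx⟩)
  obtain ⟨g₁, hg₁⟩ := key _ ht2.1 ht2.2 (htc z hzP).symm
  -- any involution
  intro x hx
  have hx2 := orderOf_two_iff.1 hx
  have hpx : IsPGroup 2 (zpowers x) := by
    rw [IsPGroup.iff_card]
    exact ⟨1, by rw [Nat.card_zpowers, hx, pow_one]⟩
  obtain ⟨Q, hQ⟩ := hpx.exists_le_sylow
  obtain ⟨g₂, hg₂⟩ := MulAction.exists_smul_eq G Q P
  have hxQ : x ∈ Q := hQ (mem_zpowers x)
  have h3 : g₂ * x * g₂⁻¹ ∈ P := by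
    rw [← hg₂]
    exact ⟨x, hxQ, rfl⟩
  have h4 := htc _ h3
  rw [← hg₁] at h4
  obtain ⟨g₃, hg₃⟩ := key (g₁⁻¹ * (g₂ * x * g₂⁻¹) * g₁) (by
      calc g₁⁻¹ * (g₂ * x * g₂⁻¹) * g₁ * (g₁⁻¹ * (g₂ * x * g₂⁻¹) * g₁) = g₁⁻¹ * (g₂ * (x * x) * g₂⁻¹) * g₁ := by group
        _ = 1 := by rw [hx2.1]; group) (by
      intro h
      apply hx2.2
      calc x = g₂⁻¹ * (g₁ * (g₁⁻¹ * (g₂ * x * g₂⁻¹) * g₁) * g₁⁻¹) * g₂ := by group
        _ = 1 := by rw [h]; group) (by
      calc g₁⁻¹ * (g₂ * x * g₂⁻¹) * g₁ * z = g₁⁻¹ * (g₂ * x * g₂⁻¹ * (g₁ * z * g₁⁻¹)) * g₁ := by group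
        _ = g₁⁻¹ * (g₁ * z * g₁⁻¹ * (g₂ * x * g₂⁻¹)) * g₁ := by rw [h4]
        _ = z * (g₁⁻¹ * (g₂ * x * g₂⁻¹) * g₁) := by group)
  refine ⟨g₂⁻¹ * g₁ * g₃, ?_⟩
  calc g₂⁻¹ * g₁ * g₃ * z * (g₂⁻¹ * g₁ * g₃)⁻¹ = g₂⁻¹ * g₁ * (g₃ * z * g₃⁻¹) * g₁⁻¹ * g₂ := by group
    _ = x := by rw [hg₃]; group

/-- **Core killing, no target.** -/
theorem isolated (hX : CoreHyp X z₀ r) (ft : FTStatement.{u}) (sf : SFStatement.{u})
    (hbase : ∀ (G : Type u) [Group G] [Finite G] (z : G), orderOf z = 2 →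
      (∃ e : centralizer ({z} : Set G) ≃* X, e ⟨z, mem_self z⟩ = z₀) → IsIsolatedInvolution z) :
    ∀ (n : ℕ) (G : Type u) [Group G] [Finite G], Nat.card G = n → ∀ z : G, orderOf z = 2 → Nonempty (Quo z₀ z) →
      IsIsolatedInvolution z := by
  intro n
  induction n using Nat.strong_induction_on with
  | _ n ih =>
    intro G _ _ hn z hz hq
    obtain ⟨q⟩ := hq
    by_contra hiso
    have hz2 := orderOf_two_iff.1 hz
    obtain ⟨g₀, hcomm, hg₀⟩ : ∃ g₀ : G, Commute z (g₀ * z * g₀⁻¹) ∧ g₀ * z * g₀⁻¹ ≠ z := by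
      by_contra hcon
      push Not at hcon
      exact hiso ⟨hz, hcon⟩
    have hcl := one_class hX hz q hg₀ hcomm
    have hctx : MinCtx z₀ r G := by
      refine ⟨hX, ft, sf, ?_, ?_, ?_, ?_⟩
      · intro x hx
        obtain ⟨g, rfl⟩ := hcl x hx
        exact ⟨q.conj g⟩
      · intro x y hx hy
        obtain ⟨g, rfl⟩ := hcl x hx
        obtain ⟨g', rfl⟩ := hcl y hy
        exact ⟨g' * g⁻¹, by group⟩
      · intro N hN hodd
        by_contra hne
        have hlt : Nat.card (G ⧸ N) < n := by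
          rw [← hn]
          have h1 := Subgroup.card_eq_card_quotient_mul_card_subgroup N
          have h2 : 1 < Nat.card N := by
            have := (Subgroup.nontrivial_iff_ne_bot N).2 hne
            exact Finite.one_lt_card
          have h3 : 0 < Nat.card (G ⧸ N) := Nat.card_pos
          rw [h1]
          nlinarith
        obtain ⟨q'⟩ := quo_quotient hX hz q (N := N) hodd
        have hinj : ∀ x : G, x * x = 1 → QuotientGroup.mk' N x = 1 → x = 1 := by
          intro x hx hx1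
          rw [← MonoidHom.mem_ker, QuotientGroup.ker_mk'] at hx1
          exact eq_one_of_odd hx hodd hx1
        have hzo : orderOf (QuotientGroup.mk' N z) = 2 :=
          orderOf_two_iff.2 ⟨by rw [← map_mul, hz2.1, map_one], fun h => hz2.2 (hinj z hz2.1 h)⟩
        have h1 := ih _ hlt (G ⧸ N) rfl (QuotientGroup.mk' N z) hzo ⟨q'⟩
        have h2 := h1.2 (QuotientGroup.mk' N g₀) (by
          rw [← map_inv, ← map_mul, ← map_mul]
          exact hcomm.map _)
        rw [← map_inv, ← map_mul, ← map_mul] at h2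
        have h3 : QuotientGroup.mk' N (g₀ * z * g₀⁻¹ * z) = 1 := by
          rw [map_mul, h2, ← map_mul, hz2.1, map_one]
        have h4 := hinj _ (by
          have hc : z * (g₀ * z * g₀⁻¹) = g₀ * z * g₀⁻¹ * z := hcomm
          calc g₀ * z * g₀⁻¹ * z * (g₀ * z * g₀⁻¹ * z) = g₀ * z * g₀⁻¹ * (z * (g₀ * z * g₀⁻¹)) * z := by group
            _ = g₀ * (z * z) * g₀⁻¹ * (z * z) := by rw [hc]; group
            _ = 1 := by rw [hz2.1]; group) h3
        apply hg₀
        rw [mul_eq_one_iff_eq_inv, inv_eq_of_mul_eq_one_left hz2.1] at h4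
        exact h4
      · intro w hw q₁ M hM hwM hcov
        have hlt : Nat.card M < n := by
          rw [← hn]
          exact lt_of_le_of_ne (Subgroup.card_le_card_group M) (fun h => hM (Subgroup.eq_top_of_card_eq M h))
        have hwo : orderOf (⟨w, hwM⟩ : M) = 2 := by rw [← hw]; exact (Subgroup.orderOf_coe _).symm
        exact ih _ hlt M rfl ⟨w, hwM⟩ hwo (quo_subgroup q₁ hwM hcov)
    -- the core is trivial
    have hcore := core_eq_bot_of_minCtx hctx hz
    apply hiso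
    have hbij : Function.Bijective q.π := by
      refine ⟨(injective_iff_map_eq_one q.π).2 fun x hx => ?_, q.surj⟩
      have h1 := (q.map_eq_one_iff hX.core x).2 hx
      rw [hcore, Subgroup.mem_bot] at h1
      exact Subtype.ext h1
    exact hbase G z hz ⟨MulEquiv.ofBijective q.π hbij, q.map_z⟩

end Cfsg.Agent.NineCore.Main
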